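import Groth.Agent.MultSubLib.Chars
import Groth.Agent.KummerExactLib.Basic
import Groth.Agent.MonoCILib.Main
import Mathlib.AlgebraicGeometry.Sites.Fpqc

/-!
# Restriction of characters: flatness, descent and base change
-/

set_option autoImplicit false
set_option linter.style.haveILetI false
set_option backward.isDefEq.respectTransparency false
set_option backward.isDefEq.respectTransparency.types false
set_option maxHeartbeats 800000

noncomputable section

universe u

open CategoryTheory CategoryTheory.Limits MonoidalCategory CartesianMonoidalCategory AlgebraicGeometry CoactBr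
open scoped MonObj

attribute [-instance] CategoryTheory.Hom.commGroup
attribute [local instance] CoactBr.braidedAlgSpecOf
attribute [local instance] DSPtsLib.algTop

namespace Groth.Agent.DSImg

open MultSubLib (chars chars_injective chars_comp chars_mul)

variable {S : Scheme.{u}} {M N P : Type} [AddCommGroup M] [AddCommGroup N] [AddCommGroup P]

theorem chars_comp_DSmap {Y : Over S} (h : Y ⟶ Red.DS S N) (φ : M →+ N) :
    chars (h ≫ Red.DSmap S φ) = (chars h).comp φ.toMultiplicative := by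
  conv_lhs => rw [← MultSubLib.dsPt_chars h, KummerExactLib.dsPt_DSmap, MultSubLib.chars_dsPt]

instance isMonHom_DSmap (φ : M →+ N) : IsMonHom (Red.DSmap S φ) := KummerExactLib.isMonHom_DSmap φ

theorem DSmap_comp (φ : M →+ N) (ψ : N →+ P) : Red.DSmap S ψ ≫ Red.DSmap S φ = Red.DSmap S (ψ.comp φ) := by
  refine chars_injective ?_
  rw [chars_comp_DSmap, ← Category.id_comp (Red.DSmap S ψ), chars_comp_DSmap,
    ← Category.id_comp (Red.DSmap S (ψ.comp φ)), chars_comp_DSmap]
  rfl

theorem comp_DSmap_eq_one_iff {Y : Over S} (h : Y ⟶ Red.DS S N) (φ : M →+ N) :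
    h ≫ Red.DSmap S φ = 1 ↔ ∀ m, chars h (Multiplicative.ofAdd (φ m)) = 1 := by
  refine ⟨fun e m => ?_, fun e => chars_injective (MonoidHom.ext fun m => ?_)⟩
  · have := DFunLike.congr_fun (congrArg chars e) (Multiplicative.ofAdd m)
    rwa [chars_comp_DSmap, MultSubLib.chars_one] at this
  · rw [chars_comp_DSmap, MultSubLib.chars_one]
    exact e m.toAdd

theorem flat_surjective_DSmap {φ : M →+ N} (hφ : Function.Injective φ) :
    Flat (Red.DSmap S φ).left ∧ Surjective (Red.DSmap S φ).left := by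
  let θ := (MonoidAlgebra.mapDomainAlgHom DSPtsLib.Z0.{u} DSPtsLib.Z0.{u} φ.toMultiplicative).toRingHom
  have hff : θ.FaithfullyFlat := MultHom.faithfullyFlat_mapDomain _ hφ
  obtain ⟨h1, h2⟩ := RingHom.FaithfullyFlat.iff_flat_and_comap_surjective.1 hff
  let g := (Red.diagMap DSPtsLib.Z0.{u} φ).left
  have hg : g = Spec.map (CommRingCat.ofHom θ) := rfl
  have gflat : Flat g := by rw [hg]; exact (HasRingHomProperty.Spec_iff (P := @Flat)).2 h1
  have gsurj : Surjective g := by rw [hg]; exact ⟨h2⟩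
  have sq := (KummerExactLib.isPullback_DSmap (S := S) φ).flip
  exact ⟨MorphismProperty.of_isPullback sq.flip gflat, MorphismProperty.of_isPullback sq.flip gsurj⟩

theorem quasiCompact_DSmap (φ : M →+ N) : QuasiCompact (Red.DSmap S φ).left := by
  haveI := MultEq.isAffineHom_DS S N
  haveI := MultEq.isAffineHom_DS S M
  haveI : QuasiCompact ((Red.DSmap S φ).left ≫ (Red.DS S M).hom) := by rw [Over.w]; infer_instance
  exact QuasiCompact.of_comp (Red.DSmap S φ).left (Red.DS S M).hom

variable {G : Over S} [GrpObj G]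

theorem epi_DSmap {φ : M →+ N} (hφ : Function.Injective φ) : Epi (Red.DSmap S φ) := by
  obtain ⟨h1, h2⟩ := flat_surjective_DSmap (S := S) hφ
  haveI := h1; haveI := h2
  haveI : Epi (Red.DSmap S φ).left := Flat.epi_of_flat_of_surjective _
  exact ⟨fun a b e => Over.OverMorphism.ext ((cancel_epi _).1 (congrArg CommaMorphism.left e))⟩

/-- Homomorphisms trivial on the kernel of a restriction of characters factor through it. -/
theorem exists_desc {φ : M →+ N} (hφ : Function.Injective φ) (f : Red.DS S N ⟶ G) [IsMonHom f]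
    (h : ∀ (Y : Over S) (a : Y ⟶ Red.DS S N), a ≫ Red.DSmap S φ = 1 → a ≫ f = 1) :
    ∃ g : Red.DS S M ⟶ G, IsMonHom g ∧ Red.DSmap S φ ≫ g = f := by
  obtain ⟨h1, h2⟩ := flat_surjective_DSmap (S := S) hφ
  haveI := h1; haveI := h2
  haveI := quasiCompact_DSmap (S := S) φ
  let p := (Red.DSmap S φ).left
  haveI : EffectiveEpi p := inferInstance
  have hcompat : ∀ {Z : Scheme.{u}} (a₁ a₂ : Z ⟶ (Red.DS S N).left), a₁ ≫ p = a₂ ≫ p → a₁ ≫ f.left = a₂ ≫ f.left := by
    intro Z a₁ a₂ e
    let Y : Over S := Over.mk (a₁ ≫ (Red.DS S N).hom)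
    let b₁ : Y ⟶ Red.DS S N := Over.homMk a₁ rfl
    let b₂ : Y ⟶ Red.DS S N := Over.homMk a₂ (by
      show a₂ ≫ _ = a₁ ≫ _
      rw [← Over.w (Red.DSmap S φ), ← Category.assoc, ← e, Category.assoc])
    have e' : b₁ ≫ Red.DSmap S φ = b₂ ≫ Red.DSmap S φ := Over.OverMorphism.ext e
    have h3 := h Y (b₁ * b₂⁻¹) (by rw [MonObj.mul_comp, GrpObj.inv_comp, e', mul_inv_cancel])
    rw [MonObj.mul_comp, GrpObj.inv_comp, mul_inv_eq_one] at h3
    exact congrArg CommaMorphism.left h3
  let gl := EffectiveEpi.desc p f.left hcompat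
  have hgl : p ≫ gl = f.left := EffectiveEpi.fac _ _ _
  let g : Red.DS S M ⟶ G := Over.homMk gl (by
    rw [← cancel_epi p, ← Category.assoc, hgl, Over.w f]
    exact (Over.w (Red.DSmap S φ)).symm)
  have hg : Red.DSmap S φ ≫ g = f := Over.OverMorphism.ext hgl
  refine ⟨g, RedRank.isMonHom_of_mul _ fun Y a b => ?_, hg⟩
  let Y₁ : Over S := Over.mk (pullback.fst a.left p ≫ Y.hom)
  let q₁ : Y₁ ⟶ Y := Over.homMk (pullback.fst a.left p) rfl
  let a₁ : Y₁ ⟶ Red.DS S N := Over.homMk (pullback.snd a.left p) (by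
    show pullback.snd _ _ ≫ _ = pullback.fst _ _ ≫ Y.hom
    rw [← Over.w (Red.DSmap S φ), ← pullback.condition_assoc, Over.w a])
  let Y₂ : Over S := Over.mk (pullback.fst (q₁ ≫ b).left p ≫ Y₁.hom)
  let q₂ : Y₂ ⟶ Y₁ := Over.homMk (pullback.fst (q₁ ≫ b).left p) rfl
  let b₂ : Y₂ ⟶ Red.DS S N := Over.homMk (pullback.snd (q₁ ≫ b).left p) (by
    show pullback.snd _ _ ≫ _ = pullback.fst _ _ ≫ Y₁.hom
    rw [← Over.w (Red.DSmap S φ), ← pullback.condition_assoc, Over.w (q₁ ≫ b)])
  haveI : Epi q₁.left := Flat.epi_of_flat_of_surjective (pullback.fst a.left p)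
  haveI : Epi q₂.left := Flat.epi_of_flat_of_surjective (pullback.fst (q₁ ≫ b).left p)
  haveI : Epi q₁ := ⟨fun u v e => Over.OverMorphism.ext ((cancel_epi q₁.left).1 (congrArg CommaMorphism.left e))⟩
  haveI : Epi q₂ := ⟨fun u v e => Over.OverMorphism.ext ((cancel_epi q₂.left).1 (congrArg CommaMorphism.left e))⟩
  have ha : q₂ ≫ q₁ ≫ a = (q₂ ≫ a₁) ≫ Red.DSmap S φ := by
    rw [Category.assoc]; congr 1; exact Over.OverMorphism.ext pullback.condition
  have hb : q₂ ≫ q₁ ≫ b = b₂ ≫ Red.DSmap S φ := Over.OverMorphism.ext pullback.condition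
  rw [← cancel_epi q₁, ← cancel_epi q₂, MonObj.comp_mul, MonObj.comp_mul, ← Category.assoc q₁ _ g,
    ← Category.assoc q₂ _ g, MonObj.comp_mul, MonObj.comp_mul, ha, hb, ← MonObj.mul_comp, Category.assoc, hg,
    MonObj.mul_comp, ← Category.assoc q₁ a g, ← Category.assoc q₂ _ g, ha, ← Category.assoc q₁ b g,
    ← Category.assoc q₂ _ g, hb, Category.assoc, Category.assoc, hg]
  simp only [Category.assoc, hg]

section BC

open PowEtCentralLib (adjEquiv)

variable {T : Scheme.{u}} (π : T ⟶ S)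

/-- Characters of points of a base change. -/
def bcChars {Y : Over T} (h : Y ⟶ Red.bc π (Red.DS S M)) : Multiplicative M →* Γ(Y.left, ⊤) :=
  chars (Y := (Over.map π).obj Y) ((adjEquiv (G := Red.DS S M) π Y).symm h)

theorem bcChars_injective {Y : Over T} {h h' : Y ⟶ Red.bc π (Red.DS S M)} (e : bcChars π h = bcChars π h') :
    h = h' := (adjEquiv (G := Red.DS S M) π Y).symm.injective (chars_injective e)

theorem bcChars_adj {Y : Over T} (x : (Over.map π).obj Y ⟶ Red.DS S M) :
    bcChars π (adjEquiv (G := Red.DS S M) π Y x) = chars x := by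
  rw [bcChars, MulEquiv.symm_apply_apply]

theorem bcChars_comp {Y' Y : Over T} (g : Y' ⟶ Y) (h : Y ⟶ Red.bc π (Red.DS S M)) :
    bcChars π (g ≫ h) = g.left.appTop.hom.toMonoidHom.comp (bcChars π h) := by
  show chars (Y := (Over.map π).obj Y') (((Over.mapPullbackAdj π).homEquiv Y' (Red.DS S M)).symm (g ≫ h)) = _
  rw [Adjunction.homEquiv_naturality_left_symm, chars_comp]
  rfl

theorem bcChars_mul {Y : Over T} (h h' : Y ⟶ Red.bc π (Red.DS S M)) :
    bcChars π (h * h') = bcChars π h * bcChars π h' := by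
  rw [bcChars, bcChars, bcChars, map_mul, chars_mul]

theorem bcChars_map {Y : Over T} (h : Y ⟶ Red.bc π (Red.DS S N)) (φ : M →+ N) :
    bcChars π (h ≫ (Over.pullback π).map (Red.DSmap S φ)) = (bcChars π h).comp φ.toMultiplicative := by
  show chars (Y := (Over.map π).obj Y) (((Over.mapPullbackAdj π).homEquiv Y (Red.DS S M)).symm (h ≫ _)) = _
  rw [Adjunction.homEquiv_naturality_right_symm, chars_comp_DSmap]
  rfl

/-- The base change of a diagonalisable group. -/
def bcDS (M : Type) [AddCommGroup M] : Red.bc π (Red.DS S M) ≅ Red.DS T M where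
  hom := DSPtsLib.dsPt (bcChars π (𝟙 (Red.bc π (Red.DS S M))))
  inv := adjEquiv (G := Red.DS S M) π (Red.DS T M) (DSPtsLib.dsPt (S := S) (T := (Over.map π).obj (Red.DS T M)) (chars (S := T) (Y := Red.DS T M) (𝟙 (Red.DS T M))))
  hom_inv_id := by
    refine bcChars_injective π ?_
    rw [bcChars_comp, bcChars_adj, MultSubLib.chars_dsPt, ← chars_comp, Category.comp_id,
      MultSubLib.chars_dsPt]
  inv_hom_id := by
    refine chars_injective ?_
    rw [chars_comp, MultSubLib.chars_dsPt, ← bcChars_comp, Category.comp_id, bcChars_adj,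
      MultSubLib.chars_dsPt]

theorem chars_comp_bcDS {Y : Over T} (h : Y ⟶ Red.bc π (Red.DS S M)) :
    chars (h ≫ (bcDS π M).hom) = bcChars π h := by
  rw [chars_comp, bcDS, MultSubLib.chars_dsPt, ← bcChars_comp, Category.comp_id]

instance isMonHom_bcDS : IsMonHom (bcDS π M).hom :=
  RedRank.isMonHom_of_mul _ fun _ a b => chars_injective (by
    rw [chars_mul, chars_comp_bcDS, chars_comp_bcDS, chars_comp_bcDS, bcChars_mul])

theorem bcDS_natural (φ : M →+ N) :
    (Over.pullback π).map (Red.DSmap S φ) ≫ (bcDS π M).hom = (bcDS π N).hom ≫ Red.DSmap T φ := by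
  refine chars_injective ?_
  rw [chars_comp_bcDS, chars_comp_DSmap, ← Category.id_comp ((Over.pullback π).map (Red.DSmap S φ)), bcChars_map,
    ← Category.id_comp (bcDS π N).hom, chars_comp_bcDS]

theorem bcDS_inv_natural (φ : M →+ N) :
    (bcDS π N).inv ≫ (Over.pullback π).map (Red.DSmap S φ) = Red.DSmap T φ ≫ (bcDS π M).inv := by
  rw [Iso.inv_comp_eq, ← Category.assoc, ← bcDS_natural, Category.assoc, Iso.hom_inv_id, Category.comp_id]

end BC

end Groth.Agent.DSImg
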