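import Groth.Agent.DSImgLib.Basic
import Groth.Agent.MonoCILib.Pts
import Mathlib.RingTheory.Coalgebra.GroupLike
import Mathlib.AlgebraicGeometry.Morphisms.ClosedImmersion

/-!
# The characters trivial on the kernel of a homomorphism over a field
-/

set_option autoImplicit false
set_option linter.style.haveILetI false
set_option backward.isDefEq.respectTransparency false
set_option backward.isDefEq.respectTransparency.types false
set_option maxHeartbeats 1600000

noncomputable section

universe u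

open CategoryTheory CategoryTheory.Limits MonoidalCategory CartesianMonoidalCategory AlgebraicGeometry
open scoped MonObj TensorProduct

attribute [-instance] CategoryTheory.Hom.commGroup

namespace Groth.Agent.DSImg

open MultSubLib (chars chars_injective chars_comp)
open MonoCI (pA pD rs rs_pD)

section Algebra

variable {k A : Type*} [Field k] [AddCommGroup A] [Module k A]

open Submodule TensorProduct in
/-- Elements sent to their square tensor by a linear map are linearly independent. -/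
theorem linearIndepOn_diag (ψ : A →ₗ[k] A ⊗[k] A) :
    LinearIndepOn k id {a : A | a ≠ 0 ∧ ψ a = a ⊗ₜ a} := by
  classical
  rw [linearIndepOn_iff_linearIndepOn_finset]
  rintro s hs
  induction s using Finset.cons_induction with
  | empty => simp
  | cons a s has ih =>
  simp only [Finset.cons_eq_insert, Finset.coe_insert, Set.subset_def, Set.mem_insert_iff,
    Finset.mem_coe, Set.mem_ofPred_eq, forall_eq_or_imp] at hs
  obtain ⟨ha, hs⟩ := hs
  specialize ih hs
  rw [Finset.coe_cons]
  refine ih.id_insert' ?_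
  simp only [mem_span_finset, forall_exists_index, and_imp]
  rintro d c - hc
  replace ih := ih.tmul_of_isDomain ih
  simp_rw [← Finset.coe_product, linearIndepOn_finset_iffₛ, id] at ih
  have key := calc
        ∑ x ∈ s, ∑ y ∈ s, (if x = y then d * c x else 0) • x ⊗ₜ[k] y
    _ = d • ∑ x ∈ s, c x • x ⊗ₜ[k] x := by simp [Finset.smul_sum, mul_smul]
    _ = d • ψ (d • a) := by rw [← hc]; simp +contextual [fun x hx => (hs x hx).2]
    _ = (d • a) ⊗ₜ (d • a) := by simp [ha.2, smul_tmul, tmul_smul, -neg_smul]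
    _ = ∑ x ∈ s, ∑ y ∈ s, (c x * c y) • x ⊗ₜ[k] y := by
      simp_rw [← hc, sum_tmul, smul_tmul, Finset.smul_sum, tmul_sum, tmul_smul, mul_smul]
  simp_rw [← Finset.sum_product'] at key
  apply ih at key
  replace key x (hx : x ∈ s) : c x = 0 := by
    by_contra! hcx
    have hcy (y) (hys : y ∈ s) (hyx : y ≠ x) : c y = 0 := by
      simpa [*] using (key (y, x) (by simp [*])).symm
    rw [Finset.sum_eq_single x (by simp +contextual [hcy]) (by simp [hx])] at hc
    have hcxa : d = c x := mul_left_injective₀ hcx (by simpa using (key (x, x) (by simp [*])))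
    obtain rfl : x = a := by rwa [hcxa, smul_right_inj hcx] at hc
    contradiction
  simp_all [ha.1, eq_comm]

end Algebra

section Quot

variable {M : Type*} [AddCommGroup M] {R : Type*} [CommMonoid R]

/-- The kernel of characters. -/
def chKer (χ : Multiplicative M →* R) : AddSubgroup M where
  carrier := {m | χ (Multiplicative.ofAdd m) = 1}
  zero_mem' := map_one χ
  add_mem' {a b} ha hb := by
    show χ (Multiplicative.ofAdd a * Multiplicative.ofAdd b) = 1
    rw [map_mul, ha, hb, one_mul]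
  neg_mem' {a} ha := by
    show χ (Multiplicative.ofAdd a)⁻¹ = 1
    rw [← one_mul (χ _), ← show χ (Multiplicative.ofAdd a) = 1 from ha, ← map_mul, mul_inv_cancel, map_one]
    exact ha.symm

theorem mem_chKer {χ : Multiplicative M →* R} {m : M} : m ∈ chKer χ ↔ χ (Multiplicative.ofAdd m) = 1 := Iff.rfl

/-- Characters trivial on a subgroup descend to the quotient. -/
theorem exists_quot {Λ : AddSubgroup M} (χ : Multiplicative M →* R) (h : Λ ≤ chKer χ) :
    ∃ χ' : Multiplicative (M ⧸ Λ) →* R,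
      ∀ m, χ' (Multiplicative.ofAdd (QuotientAddGroup.mk' Λ m)) = χ (Multiplicative.ofAdd m) := by
  let χa : M →+ Additive R :=
    { toFun := fun m => Additive.ofMul (χ (Multiplicative.ofAdd m))
      map_zero' := congrArg Additive.ofMul (map_one χ)
      map_add' := fun a b => congrArg Additive.ofMul (map_mul χ (Multiplicative.ofAdd a) (Multiplicative.ofAdd b)) }
  let ψ := QuotientAddGroup.lift Λ χa (fun m hm => congrArg Additive.ofMul (h hm))
  exact ⟨{ toFun := fun q => (ψ q.toAdd).toMul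
           map_one' := congrArg Additive.toMul (map_zero ψ)
           map_mul' := fun a b => congrArg Additive.toMul (map_add ψ a.toAdd b.toAdd) }, fun m => rfl⟩

end Quot

variable {S : Scheme.{u}} {k : Type u} [Field k] (κ : Spec (CommRingCat.of k) ⟶ S)

variable {κ} in
/-- The structure map of the functions of a scheme over a point. -/
def strHom {Y : Over S} (t : Y ⟶ Over.mk κ) : k →+* Γ(Y.left, ⊤) :=
  ((Scheme.ΓSpecIso (CommRingCat.of k)).inv ≫ t.left.appTop).hom

/-- The tautological map to the point. -/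
def tA {R : Type u} [CommRing R] (φ : k →+* R) : pA κ φ ⟶ Over.mk κ :=
  Over.homMk (Spec.map (CommRingCat.ofHom φ)) rfl

theorem strHom_tA {R : Type u} [CommRing R] (φ : k →+* R) :
    (Scheme.ΓSpecIso (CommRingCat.of R)).hom.hom.comp (strHom (tA κ φ)) = φ := by
  have h := Scheme.ΓSpecIso_naturality (CommRingCat.ofHom φ)
  show (((Scheme.ΓSpecIso (CommRingCat.of k)).inv ≫ (Spec.map (CommRingCat.ofHom φ)).appTop) ≫
    (Scheme.ΓSpecIso (CommRingCat.of R)).hom).hom = φ
  rw [Category.assoc, h, Iso.inv_hom_id_assoc]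
  rfl

theorem chars_pD {M : Type} [AddCommGroup M] {R : Type u} [CommRing R] (φ : k →+* R) (χ : Multiplicative M →* R) :
    chars (pD κ φ χ) = (Scheme.ΓSpecIso (CommRingCat.of R)).inv.hom.toMonoidHom.comp χ :=
  MultSubLib.chars_dsPt _

variable {κ} in
theorem toPA_w {Y : Over S} (t : Y ⟶ Over.mk κ) {R : Type u} [CommRing R] {φ : k →+* R}
    {h : R →+* Γ(Y.left, ⊤)} (e : h.comp φ = strHom t) :
    (Y.left.toSpecΓ ≫ Spec.map (CommRingCat.ofHom h)) ≫ Spec.map (CommRingCat.ofHom φ) = t.left := by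
  rw [Category.assoc, ← Spec.map_comp]
  show Y.left.toSpecΓ ≫ Spec.map (CommRingCat.ofHom (h.comp φ)) = t.left
  rw [e, strHom, CommRingCat.ofHom_hom, Spec.map_comp, ← Scheme.toSpecΓ_naturality_assoc]
  show t.left ≫ (Spec (CommRingCat.of k)).toSpecΓ ≫ Spec.map (Scheme.ΓSpecIso (CommRingCat.of k)).inv = t.left
  rw [← SpecMap_ΓSpecIso_hom, ← Spec.map_comp, Iso.inv_hom_id, Spec.map_id]
  exact Category.comp_id _

variable {κ} in
/-- The map to an affine scheme over the point given by a map of rings. -/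
def toPA {Y : Over S} (t : Y ⟶ Over.mk κ) {R : Type u} [CommRing R] {φ : k →+* R}
    (h : R →+* Γ(Y.left, ⊤)) (e : h.comp φ = strHom t) : Y ⟶ pA κ φ :=
  Over.homMk (Y.left.toSpecΓ ≫ Spec.map (CommRingCat.ofHom h)) (by
    show (Y.left.toSpecΓ ≫ _) ≫ Spec.map (CommRingCat.ofHom φ) ≫ κ = Y.hom
    rw [← Category.assoc, toPA_w t e]
    exact Over.w t)

variable {κ} in
theorem chars_toPA {M : Type} [AddCommGroup M] {Y : Over S} (t : Y ⟶ Over.mk κ) {R : Type u} [CommRing R]
    {φ : k →+* R} (h : R →+* Γ(Y.left, ⊤)) (e : h.comp φ = strHom t) (χ : Multiplicative M →* R) :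
    chars (toPA t h e ≫ pD κ φ χ) = h.toMonoidHom.comp χ := by
  rw [chars_comp, chars_pD]
  refine MonoidHom.ext fun m => ?_
  show ((Scheme.ΓSpecIso (CommRingCat.of R)).inv ≫ (Y.left.toSpecΓ ≫ Spec.map (CommRingCat.ofHom h)).appTop).hom
    (χ m) = h (χ m)
  rw [Scheme.Hom.comp_appTop, Scheme.toSpecΓ_appTop, Scheme.ΓSpecIso_naturality, Iso.inv_hom_id_assoc]
  rfl

variable {M : Type} [AddCommGroup M] {G : Over S} [GrpObj G] [IsSeparated G.hom]

theorem isClosedImmersion_one : IsClosedImmersion (η[G] : 𝟙_ (Over S) ⟶ G).left := by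
  haveI : IsClosedImmersion ((η[G] : 𝟙_ (Over S) ⟶ G).left ≫ G.hom) := by
    rw [Over.w]; exact inferInstanceAs (IsClosedImmersion (𝟙 S))
  exact IsClosedImmersion.of_comp _ G.hom

theorem exists_trivial_locus {D : Over S} (a : D ⟶ G) :
    ∃ (K : Over S) (i : K ⟶ D), IsClosedImmersion i.left ∧ i ≫ a = 1 ∧
      ∀ (Y : Over S) (y : Y ⟶ D), y ≫ a = 1 → ∃ l : Y ⟶ K, l ≫ i = y := by
  haveI := isClosedImmersion_one (G := G)
  have sq := IsPullback.of_hasPullback a (η[G] : 𝟙_ (Over S) ⟶ G)
  refine ⟨_, pullback.fst a (η[G] : 𝟙_ (Over S) ⟶ G),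
    MorphismProperty.of_isPullback (P := @IsClosedImmersion) (sq.map (Over.forget _)).flip ‹_›, ?_, fun Y y hy => ?_⟩
  · rw [sq.w, Hom.one_def, toUnit_unique (pullback.snd a _) (toUnit _)]
  · exact ⟨sq.lift y (toUnit Y) (by rw [hy, Hom.one_def]), sq.lift_fst _ _ _⟩

/-- The characters trivial on the kernel over a point with values in a field. -/
theorem exists_fibre_subgroup (g : Red.DS S M ⟶ G) [IsMonHom g] :
    ∃ Λ : AddSubgroup M, ∀ (Y : Over S) (_t : Y ⟶ Over.mk κ) (a : Y ⟶ Red.DS S M),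
      a ≫ g = 1 ↔ ∀ m ∈ Λ, chars a (Multiplicative.ofAdd m) = 1 := by
  -- the kernel
  obtain ⟨K, i, hi, hig, hlift⟩ := exists_trivial_locus (fst (Red.DS S M) (Over.mk κ) ≫ g)
  haveI := MultEq.isAffineHom_DS S M
  haveI : IsAffine (Red.DS S M ⊗ Over.mk κ).left := by
    haveI : IsAffineHom (pullback.snd (Red.DS S M).hom κ) := inferInstance
    exact isAffine_of_isAffineHom (pullback.snd (Red.DS S M).hom κ)
  haveI : IsAffine K.left := isAffine_of_isAffineHom i.left
  let tK : K ⟶ Over.mk κ := i ≫ snd _ _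
  let aK : K ⟶ Red.DS S M := i ≫ fst _ _
  have haK : aK ≫ g = 1 := by rw [Category.assoc]; exact hig
  have hl : ∀ (Y : Over S) (t : Y ⟶ Over.mk κ) (a : Y ⟶ Red.DS S M), a ≫ g = 1 →
      ∃ l : Y ⟶ K, l ≫ aK = a ∧ l ≫ tK = t := by
    intro Y t a ha
    obtain ⟨l, hl⟩ := hlift Y (lift a t) (by rw [lift_fst_assoc, ha])
    exact ⟨l, by rw [← Category.assoc, hl, lift_fst], by rw [← Category.assoc, hl, lift_snd]⟩
  let φA : k →+* Γ(K.left, ⊤) := strHom tK
  letI : Algebra k Γ(K.left, ⊤) := φA.toAlgebra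
  let χ₀ : Multiplicative M →* Γ(K.left, ⊤) := chars aK
  refine ⟨chKer χ₀, fun Y t a => ⟨fun ha m hm => ?_, fun ha => ?_⟩⟩
  · obtain ⟨l, rfl, -⟩ := hl Y t a ha
    rw [chars_comp]
    show l.left.appTop.hom (χ₀ _) = 1
    rw [show χ₀ (Multiplicative.ofAdd m) = 1 from hm, map_one]
  -- the affine model
  let v : K ⟶ pA κ φA := toPA tK (RingHom.id _) (RingHom.id_comp _)
  haveI : IsIso v.left := by
    show IsIso (K.left.toSpecΓ ≫ Spec.map (CommRingCat.ofHom (RingHom.id _)))
    rw [CommRingCat.ofHom_id, Spec.map_id]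
    erw [Category.comp_id]
    exact K.left.isoSpec.isIso_hom
  haveI : IsIso v := by
    haveI : IsIso ((Over.forget S).map v) := ‹_›
    exact isIso_of_reflects_iso v (Over.forget S)
  have hv : v ≫ pD κ φA χ₀ = aK := chars_injective (chars_toPA tK _ _ χ₀)
  have hA : pD κ φA χ₀ ≫ g = 1 := by
    rw [← cancel_epi v, ← Category.assoc, hv, haK, MonObj.comp_one]
  -- the unit point
  haveI : Nontrivial Γ(K.left, ⊤) := by
    obtain ⟨l, -, -⟩ := hl (Over.mk κ) (𝟙 _) 1 (MonObj.one_comp g)
    exact ((Scheme.ΓSpecIso (CommRingCat.of k)).hom.hom.comp l.left.appTop.hom).domain_nontrivial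
  -- comultiplication
  let RR := Γ(K.left, ⊤) ⊗[k] Γ(K.left, ⊤)
  let ι₁ : Γ(K.left, ⊤) →+* RR := Algebra.TensorProduct.includeLeftRingHom
  let ι₂ : Γ(K.left, ⊤) →+* RR := (Algebra.TensorProduct.includeRight (R := k)).toRingHom
  let φR : k →+* RR := ι₁.comp φA
  have e₂ : ι₂.comp φA = φR := RingHom.ext fun c =>
    ((Algebra.TensorProduct.includeRight (R := k) (A := Γ(K.left, ⊤)) (B := Γ(K.left, ⊤))).commutes c).trans rfl
  have hR : pD κ φR (ι₁.toMonoidHom.comp χ₀ * ι₂.toMonoidHom.comp χ₀) ≫ g = 1 := by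
    rw [MonoCI.pD_mul, MonObj.mul_comp, ← rs_pD κ ι₁ rfl, ← rs_pD κ ι₂ e₂, Category.assoc, Category.assoc, hA,
      MonObj.comp_one, MonObj.comp_one, one_mul]
  obtain ⟨l, hla, hlt⟩ := hl _ (tA κ φR) _ hR
  let ψ : Γ(K.left, ⊤) →+* RR := (Scheme.ΓSpecIso (CommRingCat.of RR)).hom.hom.comp l.left.appTop.hom
  have hψ : ψ.comp φA = φR := by
    rw [← strHom_tA κ φR, ← hlt]
    rfl
  let ψl : Γ(K.left, ⊤) →ₗ[k] RR :=
    { toFun := ψ
      map_add' := map_add ψ
      map_smul' := fun c x => by
        rw [Algebra.smul_def, map_mul, RingHom.id_apply, Algebra.smul_def]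
        congr 1
        exact RingHom.congr_fun hψ c }
  have hχψ : ∀ m, ψl (χ₀ m) = χ₀ m ⊗ₜ[k] χ₀ m := fun m => by
    have h1 := DFunLike.congr_fun (congrArg chars hla) m
    rw [chars_comp, chars_pD] at h1
    show (Scheme.ΓSpecIso (CommRingCat.of RR)).hom.hom (l.left.appTop.hom (χ₀ m)) = _
    refine (congrArg (Scheme.ΓSpecIso (CommRingCat.of RR)).hom.hom h1).trans ?_
    refine ((Scheme.ΓSpecIso (CommRingCat.of RR)).commRingCatIsoToRingEquiv.apply_symm_apply _).trans ?_
    show (χ₀ m ⊗ₜ[k] (1 : Γ(K.left, ⊤))) * ((1 : Γ(K.left, ⊤)) ⊗ₜ[k] χ₀ m) = _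
    rw [Algebra.TensorProduct.tmul_mul_tmul, mul_one, one_mul]
  -- independence
  obtain ⟨χb, hχb⟩ := exists_quot (Λ := chKer χ₀) χ₀ le_rfl
  have hinj : Function.Injective χb := by
    rw [injective_iff_map_eq_one]
    intro q hq
    obtain ⟨m, hm⟩ := QuotientAddGroup.mk'_surjective (chKer χ₀) q.toAdd
    have : m ∈ chKer χ₀ := by
      rw [mem_chKer, ← hχb m, hm]
      exact hq
    exact (congrArg Multiplicative.ofAdd hm).symm.trans
      (congrArg Multiplicative.ofAdd ((QuotientAddGroup.eq_zero_iff m).2 this))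
  have hli : LinearIndependent k (fun q => χb q) := by
    refine ((linearIndepOn_diag ψl).comp (fun q => ⟨χb q, ?_, ?_⟩) fun a b hab => hinj (congrArg Subtype.val hab))
    · exact ((Group.isUnit q).map χb).ne_zero
    · obtain ⟨m, hm⟩ := QuotientAddGroup.mk'_surjective (chKer χ₀) q.toAdd
      rw [show q = Multiplicative.ofAdd (QuotientAddGroup.mk' (chKer χ₀) m) from
        (congrArg Multiplicative.ofAdd hm).symm, hχb]
      exact hχψ _
  let R' := MonoidAlgebra k (Multiplicative (M ⧸ chKer χ₀))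
  let θ : R' →ₐ[k] Γ(K.left, ⊤) := MonoidAlgebra.lift k _ _ χb
  have hθ : Function.Injective θ := by
    refine (injective_iff_map_eq_zero θ).2 fun f hf => ?_
    have h1 := linearIndependent_iff.1 hli f.coeff (by
      rw [← hf]
      rw [Finsupp.linearCombination_apply]
      exact (MonoidAlgebra.lift_apply χb f).symm)
    exact MonoidAlgebra.coeff_injective (by simpa using h1)
  let χ' : Multiplicative M →* R' :=
    (MonoidAlgebra.of k _).comp (QuotientAddGroup.mk' (chKer χ₀)).toMultiplicative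
  have hθχ : θ.toRingHom.toMonoidHom.comp χ' = χ₀ := MonoidHom.ext fun m => by
    show θ (MonoidAlgebra.of k _ _) = _
    rw [MonoidAlgebra.lift_of]
    exact hχb m.toAdd
  -- the universal point is in the kernel
  let P := pD κ (algebraMap k R') χ'
  have hP : P ≫ g = 1 := by
    obtain ⟨K', i', hi', hi'g, hlift'⟩ := exists_trivial_locus (P ≫ g)
    obtain ⟨j, hj⟩ := hlift' _ (rs κ θ.toRingHom (φ' := φA) (RingHom.ext θ.commutes)) (by
      rw [← Category.assoc, rs_pD, hθχ, hA])
    haveI : IsAffine (pA κ (algebraMap k R')).left := inferInstanceAs (IsAffine (Spec (CommRingCat.of R')))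
    haveI : IsIso i'.left := IsClosedImmersion.isIso_of_injective_of_isAffine (by
      intro x y hxy
      have e := congrArg (fun w => w.left.appTop) hj
      simp only [Over.comp_left, Scheme.Hom.comp_appTop] at e
      refine (Scheme.ΓSpecIso (CommRingCat.of R')).commRingCatIsoToRingEquiv.injective (hθ ?_)
      have e1 := congrArg (fun w => w.hom x) ((Scheme.ΓSpecIso_naturality (CommRingCat.ofHom θ.toRingHom)))
      have e2 := congrArg (fun w => w.hom y) ((Scheme.ΓSpecIso_naturality (CommRingCat.ofHom θ.toRingHom)))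
      refine e1.symm.trans (Eq.trans ?_ e2)
      show (Scheme.ΓSpecIso _).hom.hom ((Spec.map (CommRingCat.ofHom θ.toRingHom)).appTop.hom x) =
        (Scheme.ΓSpecIso _).hom.hom ((Spec.map (CommRingCat.ofHom θ.toRingHom)).appTop.hom y)
      congr 1
      refine (congrArg (fun w => w.hom x) e).symm.trans (Eq.trans ?_ (congrArg (fun w => w.hom y) e))
      exact congrArg j.left.appTop.hom hxy)
    haveI : IsIso i' := by
      haveI : IsIso ((Over.forget S).map i') := ‹_›
      exact isIso_of_reflects_iso i' (Over.forget S)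
    rw [← cancel_epi i', hi'g, MonObj.comp_one]
  -- pull back
  obtain ⟨χa, hχa⟩ := exists_quot (Λ := chKer χ₀) (chars a) (fun m hm => ha m hm)
  letI : Algebra k Γ(Y.left, ⊤) := (strHom t).toAlgebra
  let h' : R' →ₐ[k] Γ(Y.left, ⊤) := MonoidAlgebra.lift k _ _ χa
  have hw : toPA t h'.toRingHom (φ := algebraMap k R') (RingHom.ext h'.commutes) ≫ P = a := by
    refine chars_injective ?_
    rw [chars_toPA]
    refine MonoidHom.ext fun m => ?_
    show h' (MonoidAlgebra.of k _ _) = _
    rw [MonoidAlgebra.lift_of]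
    exact hχa m.toAdd
  rw [← hw, Category.assoc, hP, MonObj.comp_one]

end Groth.Agent.DSImg
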