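import Groth.Agent.DSImgLib.Local
import Groth.Agent.RedCharZeroLib.TorusSplit

/-!
# Images of homomorphisms out of groups which become diagonalisable
-/

set_option autoImplicit false
set_option linter.style.haveILetI false
set_option backward.isDefEq.respectTransparency false
set_option backward.isDefEq.respectTransparency.types false
set_option synthInstance.maxHeartbeats 200000
set_option maxHeartbeats 800000

noncomputable section

universe u

open CategoryTheory CategoryTheory.Limits MonoidalCategory CartesianMonoidalCategory AlgebraicGeometry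
open scoped MonObj

attribute [-instance] CategoryTheory.Hom.commGroup

namespace Groth.Agent.DSImg

theorem isMonHom_compApp {S S' S'' : Scheme.{u}} (g : S'' ⟶ S') (f : S' ⟶ S) (T : Over S) [GrpObj T] :
    IsMonHom (M := Red.bc (g ≫ f) T) (N := Red.bc g (Red.bc f T)) ((Over.pullbackComp g f).app T).hom := by
  have h := RedCharZeroLib.isMonHom_natApp (Over.pullbackComp g f).hom T
  refine { one_hom := ?_, mul_hom := ?_ }
  · have := h.one_hom
    simpa [Functor.obj.η_def] using this
  · have := h.mul_hom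
    simpa [Functor.obj.μ_def] using this

/-- Near each point of a splitting scheme the image is diagonalisable of finite type. -/
theorem exists_local_image_split {S S' : Scheme.{u}} (g : S' ⟶ S) {H G : Over S} [GrpObj H] [GrpObj G]
    [IsSeparated G.hom] [QuasiCompact G.hom] [LocallyOfFinitePresentation G.hom] (f : H ⟶ G) [IsMonHom f]
    {U : S'.Opens} {M : Type} [AddCommGroup M] (e : Grp.mk (Red.bc (U.ι ≫ g) H) ≅ Grp.mk (Red.DS (U : Scheme.{u}) M))
    {s' : S'} (hs' : s' ∈ U) :
    ∃ U' : S'.Opens, s' ∈ U' ∧ ∃ (Λ : AddSubgroup M) (p : Red.bc (U'.ι ≫ g) H ⟶ Red.DS (U' : Scheme.{u}) Λ)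
      (j : Red.DS (U' : Scheme.{u}) Λ ⟶ Red.bc (U'.ι ≫ g) G), IsMonHom j ∧ IsClosedImmersion j.left ∧
      Flat p.left ∧ Surjective p.left ∧ p ≫ j = (Over.pullback (U'.ι ≫ g)).map f := by
  let π : (U : Scheme.{u}) ⟶ S := U.ι ≫ g
  let φ : Red.bc π H ≅ Red.DS (U : Scheme.{u}) M := (Grp.forget _).mapIso e
  haveI hφ : IsMonHom φ.hom := e.hom.hom.isMonHom_hom
  haveI hφi : IsMonHom φ.inv := inferInstance
  haveI : IsMonHom (M := Red.bc π H) (N := Red.bc π G) ((Over.pullback π).map f) := DiagRep.isMonHom_bc_map π f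
  let fU : Red.DS (U : Scheme.{u}) M ⟶ Red.bc π G := φ.inv ≫ (Over.pullback π).map f
  haveI : IsMonHom fU := inferInstanceAs (IsMonHom (φ.inv ≫ (Over.pullback π).map f))
  haveI : IsSeparated (Red.bc π G).hom := inferInstanceAs (IsSeparated (pullback.snd G.hom π))
  haveI : QuasiCompact (Red.bc π G).hom := inferInstanceAs (QuasiCompact (pullback.snd G.hom π))
  haveI : LocallyOfFinitePresentation (Red.bc π G).hom :=
    inferInstanceAs (LocallyOfFinitePresentation (pullback.snd G.hom π))
  obtain ⟨W, hW, -, Λ, hΛ, hker⟩ := exists_clopen_kerSub fU ⟨s', hs'⟩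
  let U' : S'.Opens := U.ι ''ᵁ W
  have hle : U' ≤ U := by rintro _ ⟨x, -, rfl⟩; exact x.2
  let k : (U' : Scheme.{u}) ⟶ U := (U.ι.isoImage W).inv ≫ W.ι
  have hk : k ≫ π = U'.ι ≫ g := by
    show ((U.ι.isoImage W).inv ≫ W.ι) ≫ U.ι ≫ g = U'.ι ≫ g
    rw [Category.assoc, U.ι.isoImage_inv_ι_assoc]
  refine ⟨U', ⟨⟨s', hs'⟩, hW, rfl⟩, Λ, ?_⟩
  rw [← hk]
  have hker' : KerSub ((Over.map k).obj (Over.mk (𝟙 (U' : Scheme.{u})))) fU Λ :=
    hker.of_hom (Over.homMk (U.ι.isoImage W).inv (by
      show (U.ι.isoImage W).inv ≫ W.ι = 𝟙 _ ≫ k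
      rw [Category.id_comp]))
  obtain ⟨h, hh, hmono, hfac⟩ := exists_factor (fT k fU) (KerSub.bc k hker')
  haveI := hh
  haveI := hmono
  haveI : IsSeparated (Red.bc k (Red.bc π G)).hom :=
    inferInstanceAs (IsSeparated (pullback.snd (Red.bc π G).hom k))
  haveI : QuasiCompact (Red.bc k (Red.bc π G)).hom :=
    inferInstanceAs (QuasiCompact (pullback.snd (Red.bc π G).hom k))
  haveI : LocallyOfFinitePresentation (Red.bc k (Red.bc π G)).hom :=
    inferInstanceAs (LocallyOfFinitePresentation (pullback.snd (Red.bc π G).hom k))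
  haveI : LocallyOfFiniteType (Red.bc k (Red.bc π G)).hom := inferInstance
  haveI : AddGroup.FG Λ := (AddGroup.fg_iff_addSubgroup_fg Λ).2 hΛ
  haveI hcl := MonoCI.isClosedImmersion_of_mono_DS h
  let θH : Red.bc (k ≫ π) H ≅ Red.bc k (Red.bc π H) := (Over.pullbackComp k π).app H
  let θG : Red.bc (k ≫ π) G ≅ Red.bc k (Red.bc π G) := (Over.pullbackComp k π).app G
  haveI : IsMonHom θG.hom := isMonHom_compApp k π G
  haveI : IsMonHom θG.inv := inferInstance
  haveI : ∀ {X Y : Over (U' : Scheme.{u})} (i : X ≅ Y), IsIso i.hom.left := fun i =>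
    inferInstanceAs (IsIso ((Over.forget _).map i.hom))
  obtain ⟨h1, h2⟩ := flat_surjective_DSmap (S := (U' : Scheme.{u})) (φ := Λ.subtype) Subtype.val_injective
  haveI := h1; haveI := h2
  let c : Red.bc (k ≫ π) H ≅ Red.DS (U' : Scheme.{u}) M :=
    θH ≪≫ (Over.pullback k).mapIso φ ≪≫ bcDS k M
  refine ⟨c.hom ≫ Red.DSmap (U' : Scheme.{u}) Λ.subtype, h ≫ θG.inv, inferInstance, ?_, ?_, ?_, ?_⟩
  · haveI : IsIso θG.inv.left := inferInstanceAs (IsIso ((Over.forget _).map θG.inv))
    rw [Over.comp_left]; infer_instance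
  · rw [Over.comp_left]; infer_instance
  · rw [Over.comp_left]; infer_instance
  · rw [Category.assoc c.hom, ← Category.assoc (Red.DSmap (U' : Scheme.{u}) Λ.subtype), hfac]
    simp only [c, Iso.trans_hom, Functor.mapIso_hom, Category.assoc, fT, fU, Iso.hom_inv_id_assoc, Functor.map_comp]
    rw [← Category.assoc ((Over.pullback k).map φ.hom), ← Functor.map_comp, Iso.hom_inv_id,
      CategoryTheory.Functor.map_id, Category.id_comp]
    refine (Category.assoc _ _ _).symm.trans ((Iso.comp_inv_eq θG).2 ?_)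
    exact ((Over.pullbackComp k π).hom.naturality f).symm

end Groth.Agent.DSImg
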