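import Groth.Agent.AlgSpRegLib.ImageScheme
import Groth.Agent.FlatLib.FibreFlatScheme
import Groth.Agent.SubDescLib.Main
import Groth.Agent.PowEtCentralLib.Split
import Groth.Agent.DiagRepLib.Split
import Groth.Agent.ShfQuotLib.Basic
import Groth.Agent.FinHomLib.Affine

/-!
# Scheme theoretic images of homomorphisms with good images after a flat covering
-/

set_option autoImplicit false
set_option linter.style.haveILetI false
set_option backward.isDefEq.respectTransparency false
set_option backward.isDefEq.respectTransparency.types false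
set_option maxHeartbeats 800000
set_option synthInstance.maxHeartbeats 200000

noncomputable section

universe u

open CategoryTheory CategoryTheory.Limits MonoidalCategory CartesianMonoidalCategory AlgebraicGeometry
open scoped MonObj

attribute [-instance] CategoryTheory.Hom.commGroup

namespace Groth.Agent.DSImg

variable {S : Scheme.{u}}

theorem exists_lift_of_ker {X Q G : Over S} (j : Q ⟶ G) [IsClosedImmersion j.left] (h : X ⟶ G)
    (hk : j.left.ker ≤ h.left.ker) : ∃ l : X ⟶ Q, l ≫ j = h :=
  ⟨Over.homMk (IsClosedImmersion.lift j.left h.left hk) (by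
    rw [← Over.w j, IsClosedImmersion.lift_fac_assoc]
    exact Over.w h), Over.OverMorphism.ext (IsClosedImmersion.lift_fac _ _ _)⟩

theorem exists_iso_of_ker_eq {Q₁ Q₂ G : Over S} (j₁ : Q₁ ⟶ G) (j₂ : Q₂ ⟶ G) [IsClosedImmersion j₁.left]
    [IsClosedImmersion j₂.left] (hk : j₁.left.ker = j₂.left.ker) : ∃ e : Q₁ ≅ Q₂, e.hom ≫ j₂ = j₁ := by
  obtain ⟨a, ha⟩ := exists_lift_of_ker j₂ j₁ hk.ge
  obtain ⟨b, hb⟩ := exists_lift_of_ker j₁ j₂ hk.le
  haveI : Mono j₁ := Over.mono_of_mono_left j₁
  haveI : Mono j₂ := Over.mono_of_mono_left j₂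
  exact ⟨⟨a, b, by rw [← cancel_mono j₁, Category.assoc, hb, ha, Category.id_comp],
    by rw [← cancel_mono j₂, Category.assoc, ha, hb, Category.id_comp]⟩, ha⟩

theorem ker_eq_of_fac {H Q G : Over S} {f : H ⟶ G} (p : H ⟶ Q) [Flat p.left] [Surjective p.left] (j : Q ⟶ G)
    (hfac : p ≫ j = f) : f.left.ker = j.left.ker := by
  haveI := AlgSpRegLib.dominant_of_flat_surjective p.left
  rw [← hfac, Over.comp_left, AlgSpRegLib.ker_comp_dominant]

theorem flat_surjective_tensor {H Q : Over S} (p : H ⟶ Q) [Flat p.left] [Surjective p.left] :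
    Flat (p ⊗ₘ p).left ∧ Surjective (p ⊗ₘ p).left := by
  have h1 := FinHom.isPullback_whiskerLeft H p
  have h2 : IsPullback (fst H Q).left (p ▷ Q).left p.left (fst Q Q).left :=
    (ShfQuotLib.isPullback_whiskerRight p Q).map (Over.forget S)
  haveI : Flat (H ◁ p).left := MorphismProperty.of_isPullback h1.flip inferInstance
  haveI : Surjective (H ◁ p).left := MorphismProperty.of_isPullback h1.flip inferInstance
  haveI : Flat (p ▷ Q).left := MorphismProperty.of_isPullback h2 inferInstance
  haveI : Surjective (p ▷ Q).left := MorphismProperty.of_isPullback h2 inferInstance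
  rw [MonoidalCategory.tensorHom_def', Over.comp_left]
  exact ⟨inferInstance, inferInstance⟩

/-- A homomorphism with good images after a flat covering has a good image. -/
theorem exists_image {H G : Over S} [GrpObj H] [GrpObj G] (f : H ⟶ G) [IsMonHom f] [QuasiCompact f.left]
    {I : Type u} {T : I → Scheme.{u}} (π : ∀ i, T i ⟶ S) (hπ : ∀ i, Flat (π i))
    (hsurj : ∀ s : S, ∃ i, s ∈ Set.range (π i)) (C : ∀ i, Grp (Over (T i)))
    (p : ∀ i, Red.bc (π i) H ⟶ (C i).X) (j : ∀ i, (C i).X ⟶ Red.bc (π i) G) (hjm : ∀ i, IsMonHom (j i))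
    (hj : ∀ i, IsClosedImmersion (j i).left) (hp : ∀ i, Flat (p i).left) (hp' : ∀ i, Surjective (p i).left)
    (hfac : ∀ i, p i ≫ j i = (Over.pullback (π i)).map f) :
    ∃ (Q : Over S) (_ : GrpObj Q) (jQ : Q ⟶ G) (_ : IsMonHom jQ) (f' : H ⟶ Q) (_ : IsMonHom f'),
      IsClosedImmersion jQ.left ∧ Flat f'.left ∧ Surjective f'.left ∧ f' ≫ jQ = f ∧
      ∀ i, Nonempty (Grp.mk (Red.bc (π i) Q) ≅ C i) := by
  let Q : Over S := Over.mk (f.left.imageι ≫ G.hom)
  let jQ : Q ⟶ G := Over.homMk f.left.imageι rfl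
  let q : H ⟶ Q := Over.homMk f.left.toImage (by
    show f.left.toImage ≫ f.left.imageι ≫ G.hom = H.hom
    rw [Scheme.Hom.toImage_imageι_assoc]
    exact Over.w f)
  haveI hjQ : IsClosedImmersion jQ.left := inferInstanceAs (IsClosedImmersion f.left.imageι)
  have hqj : q ≫ jQ = f := Over.OverMorphism.ext (Scheme.Hom.toImage_imageι f.left)
  haveI : Mono jQ := Over.mono_of_mono_left jQ
  -- comparison after each change of base
  have key : ∀ i, ∃ e : Red.bc (π i) Q ≅ (C i).X, e.hom ≫ j i = (Over.pullback (π i)).map jQ ∧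
      (Over.pullback (π i)).map q ≫ e.hom = p i := by
    intro i
    haveI := hπ i; haveI := hj i; haveI := hp i; haveI := hp' i
    haveI : Flat (pullback.fst G.hom (π i)) := inferInstance
    have sqf := PowEtCentralLib.isPullback_map_left (π i) f
    have sqj := PowEtCentralLib.isPullback_map_left (π i) jQ
    haveI : IsClosedImmersion ((Over.pullback (π i)).map jQ).left := MorphismProperty.of_isPullback sqj hjQ
    have hk : ((Over.pullback (π i)).map jQ).left.ker = (j i).left.ker := by
      rw [← ker_eq_of_fac (p i) (j i) (hfac i), AlgSpRegLib.ker_eq_comap_of_isPullback sqf,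
        AlgSpRegLib.ker_eq_comap_of_isPullback sqj]
      congr 1
      exact Scheme.IdealSheafData.ker_subschemeι _
    obtain ⟨e, he⟩ := exists_iso_of_ker_eq ((Over.pullback (π i)).map jQ) (j i) hk
    haveI : Mono (j i) := Over.mono_of_mono_left (j i)
    exact ⟨e, he, by rw [← cancel_mono (j i), Category.assoc, he, hfac i, ← Functor.map_comp, hqj]⟩
  choose e he he' using key
  -- flatness and surjectivity
  let b : ∀ i, (Red.bc (π i) H).left ⟶ H.left := fun i => pullback.fst H.hom (π i)
  have hbq : ∀ i, Flat (b i ≫ q.left) := fun i => by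
    haveI := hπ i; haveI := hp i
    have : ((Over.pullback (π i)).map q).left = (p i).left ≫ (e i).inv.left := by
      rw [← Over.comp_left, ← he', Category.assoc, Iso.hom_inv_id, Category.comp_id]
    haveI : Flat ((Over.pullback (π i)).map q).left := by rw [this]; infer_instance
    rw [← show _ = b i ≫ q.left from ((PowEtCentralLib.isPullback_map_left (π i) q).w).symm]
    haveI : Flat (pullback.fst Q.hom (π i)) := inferInstance
    infer_instance
  have hcov : ∀ x : H.left, ∃ i, x ∈ Set.range (b i) := fun x => by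
    obtain ⟨i, hi⟩ := hsurj (H.hom x)
    exact ⟨i, by show x ∈ Set.range (pullback.fst H.hom (π i)); rw [Scheme.Pullback.range_fst]; exact hi⟩
  haveI : Surjective (Sigma.desc b) := ⟨fun x => by
    obtain ⟨i, y, hy⟩ := hcov x
    exact ⟨(Sigma.ι (fun i => (Red.bc (π i) H).left) i) y, by
      rw [← Scheme.Hom.comp_apply, Sigma.ι_desc]; exact hy⟩⟩
  haveI : Flat (Sigma.desc b) := IsZariskiLocalAtSource.sigmaDesc fun i => by
    haveI := hπ i
    exact (inferInstance : Flat (pullback.fst H.hom (π i)))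
  haveI : Flat (Sigma.desc b ≫ q.left) := by
    have h : Sigma.desc b ≫ q.left = Sigma.desc fun i => b i ≫ q.left := Sigma.hom_ext _ _ fun i => by simp
    rw [h]
    exact IsZariskiLocalAtSource.sigmaDesc hbq
  haveI hqflat : Flat q.left := FlatLib.flat_of_flat_surjective_comp (Sigma.desc b) q.left
  haveI hqsurj : Surjective q.left := ⟨fun y => by
    obtain ⟨i, hi⟩ := hsurj (Q.hom y)
    obtain ⟨y', hy'⟩ : y ∈ Set.range (pullback.fst Q.hom (π i)) := by rw [Scheme.Pullback.range_fst]; exact hi
    haveI := hp' i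
    obtain ⟨x, hx⟩ := (p i).left.surjective ((e i).hom.left y')
    refine ⟨b i x, ?_⟩
    have h1 : ((Over.pullback (π i)).map q).left x = y' := by
      have h2 : ((Over.pullback (π i)).map q).left ≫ (e i).hom.left = (p i).left := by rw [← Over.comp_left, he']
      have h3 : ((Over.pullback (π i)).map q).left ≫ (e i).hom.left ≫ (e i).inv.left = (p i).left ≫ (e i).inv.left := by
        rw [← Category.assoc, h2]
      rw [← Over.comp_left, Iso.hom_inv_id, Over.id_left, Category.comp_id] at h3
      rw [h3, Scheme.Hom.comp_apply, hx, ← Scheme.Hom.comp_apply, ← Over.comp_left, Iso.hom_inv_id, Over.id_left]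
      rfl
    show q.left (b i x) = y
    rw [← Scheme.Hom.comp_apply, (PowEtCentralLib.isPullback_map_left (π i) q).w, Scheme.Hom.comp_apply, h1]
    exact hy'⟩
  -- the group structure
  have hlift : ∀ {X Y : Over S} (r : X ⟶ Y) (_ : Flat r.left) (_ : Surjective r.left) (m : Y ⟶ G) (x : X ⟶ Q),
      r ≫ m = x ≫ jQ → ∃ l : Y ⟶ Q, l ≫ jQ = m := by
    intro X Y r _ _ m x hx
    haveI := AlgSpRegLib.dominant_of_flat_surjective r.left
    refine exists_lift_of_ker jQ m ?_
    rw [← AlgSpRegLib.ker_comp_dominant r.left m.left, ← Over.comp_left, hx, Over.comp_left]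
    exact Scheme.Hom.le_ker_comp _ _
  obtain ⟨hf2, hs2⟩ := flat_surjective_tensor q
  obtain ⟨hQ, hjm'⟩ := Groth.Agent.SubDesc.exists_grpObj_of_mono jQ
    (hlift (q ⊗ₘ q) hf2 hs2 _ (((fst H H) * (snd H H)) ≫ q) (by
      rw [MonObj.comp_mul, ← Category.assoc, ← Category.assoc (q ⊗ₘ q), tensorHom_fst, tensorHom_snd, Category.assoc,
        Category.assoc, Category.assoc, hqj, MonObj.mul_comp]))
    ⟨η[H] ≫ q, by rw [Category.assoc, hqj, IsMonHom.one_hom, Hom.one_def, toUnit_unique (toUnit _) (𝟙 _),
      Category.id_comp]⟩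
    (hlift q hqflat hqsurj jQ⁻¹ ((𝟙 H)⁻¹ ≫ q) (by
      rw [GrpObj.comp_inv, hqj, Category.assoc, hqj, GrpObj.inv_comp, Category.id_comp]))
  haveI := hjm'
  haveI hqm : IsMonHom q := by
    constructor
    · rw [← cancel_mono jQ, Category.assoc, hqj, IsMonHom.one_hom, IsMonHom.one_hom]
    · rw [← cancel_mono jQ, Category.assoc, hqj, IsMonHom.mul_hom, Category.assoc, IsMonHom.mul_hom,
        tensorHom_comp_tensorHom_assoc, hqj]
  refine ⟨Q, hQ, jQ, inferInstance, q, hqm, hjQ, hqflat, hqsurj, hqj, fun i => ?_⟩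
  haveI := hjm i; haveI := hj i
  haveI : Mono (j i) := Over.mono_of_mono_left (j i)
  haveI : IsMonHom (M := Red.bc (π i) Q) (N := Red.bc (π i) G) ((Over.pullback (π i)).map jQ) :=
    DiagRep.isMonHom_bc_map (π i) jQ
  haveI : IsMonHom (M := Red.bc (π i) Q) (N := (C i).X) (e i).hom := by
    constructor
    · rw [← cancel_mono (j i), Category.assoc, he i, IsMonHom.one_hom, IsMonHom.one_hom]
    · rw [← cancel_mono (j i), Category.assoc, he i, IsMonHom.mul_hom, Category.assoc, IsMonHom.mul_hom,
        tensorHom_comp_tensorHom_assoc, he i]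
  exact ⟨Grp.mkIso (e i) (IsMonHom.one_hom (e i).hom) (IsMonHom.mul_hom (e i).hom)⟩

end Groth.Agent.DSImg
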