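import Groth.Agent.DSImgLib.Limit
import Groth.Agent.DSImgLib.Fibre
import Groth.Agent.DiagRepLib.Split

/-!
# The kernel of a homomorphism out of a diagonalisable group, over an object of the base
-/

set_option autoImplicit false
set_option linter.style.haveILetI false
set_option backward.isDefEq.respectTransparency false
set_option backward.isDefEq.respectTransparency.types false
set_option maxHeartbeats 800000

noncomputable section

universe u

open CategoryTheory CategoryTheory.Limits MonoidalCategory CartesianMonoidalCategory AlgebraicGeometry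
open scoped MonObj

attribute [-instance] CategoryTheory.Hom.commGroup

namespace Groth.Agent.DSImg

open MultSubLib (chars chars_injective chars_comp)
open PowEtCentralLib (adjEquiv inc adjEquiv_inc)

variable {S : Scheme.{u}} {M N : Type} [AddCommGroup M] [AddCommGroup N] {G : Over S} [GrpObj G]

/-- Over `Z` the kernel consists of the points whose characters kill `Λ`. -/
def KerSub (Z : Over S) (f : Red.DS S M ⟶ G) (Λ : AddSubgroup M) : Prop :=
  ∀ (Y : Over S) (_t : Y ⟶ Z) (a : Y ⟶ Red.DS S M),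
    a ≫ f = 1 ↔ ∀ m ∈ Λ, chars a (Multiplicative.ofAdd m) = 1

theorem KerSub.of_hom {Z Z' : Over S} {f : Red.DS S M ⟶ G} {Λ : AddSubgroup M} (h : KerSub Z f Λ)
    (u : Z' ⟶ Z) : KerSub Z' f Λ := fun Y t a => h Y (t ≫ u) a

theorem KerSub.iff_comp {Z : Over S} {f : Red.DS S M ⟶ G} {Λ : AddSubgroup M} (h : KerSub Z f Λ)
    {Y : Over S} (t : Y ⟶ Z) (a : Y ⟶ Red.DS S M) : a ≫ f = 1 ↔ a ≫ Red.DSmap S Λ.subtype = 1 := by
  rw [h Y t a, comp_DSmap_eq_one_iff]
  exact ⟨fun e m => e m m.2, fun e m hm => e ⟨m, hm⟩⟩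

theorem KerSub.map {Z : Over S} {φ : M →+ N} {g : Red.DS S M ⟶ G} {Λ : AddSubgroup M} (h : KerSub Z g Λ) :
    KerSub Z (Red.DSmap S φ ≫ g) (Λ.map φ) := fun Y t a => by
  rw [← Category.assoc, h Y t, chars_comp_DSmap]
  exact ⟨fun e n ⟨m, hm, hn⟩ => hn ▸ e m hm, fun e m hm => e (φ m) ⟨m, hm, rfl⟩⟩

theorem eq_of_kerSub {k : Type u} [Field k] (κ : Spec (CommRingCat.of k) ⟶ S) {f : Red.DS S M ⟶ G}
    {Λ Λ' : AddSubgroup M} (h : KerSub (Over.mk κ) f Λ) (h' : KerSub (Over.mk κ) f Λ') : Λ = Λ' := by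
  suffices key : ∀ {Λ Λ' : AddSubgroup M}, KerSub (Over.mk κ) f Λ → KerSub (Over.mk κ) f Λ' → Λ' ≤ Λ from
    le_antisymm (key h' h) (key h h')
  intro Λ Λ' h h' m hm
  let χ : Multiplicative M →* MonoidAlgebra k (Multiplicative (M ⧸ Λ)) :=
    (MonoidAlgebra.of k _).comp (QuotientAddGroup.mk' Λ).toMultiplicative
  have e : ∀ x : M, chars (MonoCI.pD κ (algebraMap k _) χ) (Multiplicative.ofAdd x) = 1 ↔ x ∈ Λ := fun x => by
    rw [chars_pD]
    refine (map_eq_one_iff (Scheme.ΓSpecIso _).inv.hom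
      (Scheme.ΓSpecIso _).commRingCatIsoToRingEquiv.symm.injective).trans ?_
    refine (map_eq_one_iff (MonoidAlgebra.of k (Multiplicative (M ⧸ Λ))) MonoidAlgebra.of_injective).trans ?_
    exact QuotientAddGroup.eq_zero_iff x
  exact (e m).1 ((h' _ (tA κ _) _).1 ((h _ (tA κ _) _).2 fun x hx => (e x).2 hx) m hm)

section BC

variable {T : Scheme.{u}} (π : T ⟶ S)

/-- A point over `T` of the group over `S`. -/
def bcPt {Y : Over T} (a : Y ⟶ Red.DS T M) : (Over.map π).obj Y ⟶ Red.DS S M :=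
  (adjEquiv (G := Red.DS S M) π Y).symm (a ≫ (bcDS π M).inv)

theorem chars_bcPt {Y : Over T} (a : Y ⟶ Red.DS T M) : chars (Y := (Over.map π).obj Y) (bcPt π a) = chars a := by
  show bcChars π (a ≫ (bcDS π M).inv) = _
  rw [← chars_comp_bcDS, Category.assoc, Iso.inv_hom_id, Category.comp_id]

/-- The homomorphism after a change of base. -/
def fT (f : Red.DS S M ⟶ G) : Red.DS T M ⟶ Red.bc π G := (bcDS π M).inv ≫ (Over.pullback π).map f

instance isMonHom_fT (f : Red.DS S M ⟶ G) [IsMonHom f] : IsMonHom (fT π f) := by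
  haveI : IsMonHom (M := Red.bc π (Red.DS S M)) (N := Red.bc π G) ((Over.pullback π).map f) :=
    DiagRep.isMonHom_bc_map π f
  haveI : IsMonHom (bcDS π M).inv := inferInstance
  exact inferInstanceAs (IsMonHom ((bcDS π M).inv ≫ (Over.pullback π).map f))

theorem bcPt_comp {Y : Over T} (a : Y ⟶ Red.DS T M) (f : Red.DS S M ⟶ G) :
    bcPt π a ≫ f = (adjEquiv (G := G) π Y).symm (a ≫ fT π f) := by
  show ((Over.mapPullbackAdj π).homEquiv Y (Red.DS S M)).symm (a ≫ (bcDS π M).inv) ≫ f =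
    ((Over.mapPullbackAdj π).homEquiv Y G).symm _
  rw [← Adjunction.homEquiv_naturality_right_symm, fT, Category.assoc]

theorem comp_fT_eq_one_iff {Y : Over T} (a : Y ⟶ Red.DS T M) (f : Red.DS S M ⟶ G) :
    a ≫ fT π f = 1 ↔ bcPt π a ≫ f = 1 := by
  rw [bcPt_comp, map_eq_one_iff _ (adjEquiv (G := G) π Y).symm.injective]

theorem fT_DSmap (φ : M →+ N) (g : Red.DS S M ⟶ G) :
    fT π (Red.DSmap S φ ≫ g) = Red.DSmap T φ ≫ fT π g := by
  rw [fT, fT, Functor.map_comp, ← Category.assoc, bcDS_inv_natural, Category.assoc]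

theorem KerSub.bc {f : Red.DS S M ⟶ G} {Λ : AddSubgroup M} {Z : Over T} (h : KerSub ((Over.map π).obj Z) f Λ) :
    KerSub Z (fT π f) Λ := fun Y t a => by
  rw [comp_fT_eq_one_iff, h _ ((Over.map π).map t), chars_bcPt]
  rfl

theorem exists_bcPt {Y : Over S} {Z : Over T} (t : Y ⟶ (Over.map π).obj Z) (a : Y ⟶ Red.DS S M) :
    ∃ (Y₀ : Over T) (_ : Y₀ ⟶ Z) (e : (Over.map π).obj Y₀ ⟶ Y) (_ : IsIso e) (a₀ : Y₀ ⟶ Red.DS T M),
      bcPt π a₀ = e ≫ a := by
  let Y₀ : Over T := Over.mk (t.left ≫ Z.hom)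
  let e : (Over.map π).obj Y₀ ⟶ Y := Over.homMk (𝟙 Y.left) (by
    show 𝟙 _ ≫ Y.hom = (t.left ≫ Z.hom) ≫ π
    rw [Category.id_comp, Category.assoc]
    exact (Over.w t).symm)
  haveI : IsIso e := by
    haveI : IsIso ((Over.forget S).map e) := inferInstanceAs (IsIso (𝟙 Y.left))
    exact isIso_of_reflects_iso e (Over.forget S)
  refine ⟨Y₀, Over.homMk t.left rfl, e, inferInstance,
    adjEquiv (G := Red.DS S M) π Y₀ (e ≫ a) ≫ (bcDS π M).hom, ?_⟩
  rw [bcPt, Category.assoc, Iso.hom_inv_id, Category.comp_id, MulEquiv.symm_apply_apply]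

theorem KerSub.of_bc {f : Red.DS S M ⟶ G} {Λ : AddSubgroup M} {Z : Over T} (h : KerSub Z (fT π f) Λ) :
    KerSub ((Over.map π).obj Z) f Λ := fun Y t a => by
  obtain ⟨Y₀, t₀, e, _, a₀, ha₀⟩ := exists_bcPt π t a
  haveI : Mono (e.left) := inferInstanceAs (Mono ((Over.forget S).map e))
  have h1 := h Y₀ t₀ a₀
  rw [comp_fT_eq_one_iff, ha₀, Category.assoc, ← chars_bcPt π a₀, ha₀, ← MonObj.comp_one e, cancel_epi] at h1
  rw [h1, chars_comp]
  refine ⟨fun H m hm => ?_, fun H m hm => ?_⟩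
  · refine (ConcreteCategory.bijective_of_isIso e.left.appTop).1 ?_
    exact (H m hm).trans (map_one _).symm
  · show e.left.appTop.hom (chars a _) = 1
    rw [H m hm, map_one]

/-- A morphism trivial after the change of base kills the points over it. -/
theorem comp_eq_one_of_map_eq_one {D : Over S} (u : D ⟶ G) (hu : (Over.pullback π).map u = 1) {Y : Over S}
    (t : Y ⟶ Over.mk π) (a : Y ⟶ D) : a ≫ u = 1 := by
  let Y₀ : Over T := Over.mk t.left
  let e : (Over.map π).obj Y₀ ⟶ Y := Over.homMk (𝟙 Y.left) ((Category.id_comp _).trans (Over.w t).symm)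
  haveI : IsIso e := by
    haveI : IsIso ((Over.forget S).map e) := inferInstanceAs (IsIso (𝟙 Y.left))
    exact isIso_of_reflects_iso e (Over.forget S)
  have h1 : adjEquiv (G := G) π Y₀ (e ≫ a ≫ u) = 1 := by
    show (Over.mapPullbackAdj π).homEquiv _ _ _ = _
    rw [← Category.assoc, Adjunction.homEquiv_naturality_right, hu]
    exact MonObj.comp_one _
  rw [← cancel_epi e, MonObj.comp_one]
  exact (map_eq_one_iff _ (adjEquiv (G := G) π Y₀).injective).1 h1

theorem map_eq_one {D : Over S} (u : D ⟶ G)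
    (hu : ∀ (Y : Over S) (_t : Y ⟶ Over.mk π) (a : Y ⟶ D), a ≫ u = 1) : (Over.pullback π).map u = 1 := by
  rw [← adjEquiv_inc, hu _ (Over.homMk (Red.bc π D).hom rfl) (inc π D), map_one]

end BC

/-- If the kernel of `f` is cut out by `Λ`, the induced map has trivial kernel. -/
theorem eq_one_of_comp_eq_one {f : Red.DS S M ⟶ G} {Λ : AddSubgroup M} {h : Red.DS S Λ ⟶ G}
    (hf : Red.DSmap S Λ.subtype ≫ h = f) {Z : Over S} (hker : KerSub Z f Λ) {Y : Over S} (t : Y ⟶ Z)
    (y : Y ⟶ Red.DS S Λ) (hy : y ≫ h = 1) : y = 1 := by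
  obtain ⟨h1, h2⟩ := flat_surjective_DSmap (S := S) (φ := Λ.subtype) Subtype.val_injective
  haveI := h1; haveI := h2
  haveI := quasiCompact_DSmap (S := S) Λ.subtype
  let p := Red.DSmap S Λ.subtype
  let Y' : Over S := Over.mk (pullback.fst y.left p.left ≫ Y.hom)
  let q : Y' ⟶ Y := Over.homMk (pullback.fst y.left p.left) rfl
  let x : Y' ⟶ Red.DS S M := Over.homMk (pullback.snd y.left p.left) (by
    show pullback.snd _ _ ≫ _ = pullback.fst _ _ ≫ Y.hom
    rw [← Over.w p, ← pullback.condition_assoc, Over.w y])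
  have hx : x ≫ p = q ≫ y := Over.OverMorphism.ext pullback.condition.symm
  haveI : Epi q.left := Flat.epi_of_flat_of_surjective (pullback.fst y.left p.left)
  haveI : Epi q := ⟨fun u v e => Over.OverMorphism.ext ((cancel_epi q.left).1 (congrArg CommaMorphism.left e))⟩
  rw [← cancel_epi q, MonObj.comp_one, ← hx]
  refine (hker.iff_comp (q ≫ t) x).1 ?_
  rw [← hf, ← Category.assoc, hx, Category.assoc, hy, MonObj.comp_one]

theorem mono_of_forall_eq_one {H : Over S} [GrpObj H] (h : H ⟶ G) [IsMonHom h]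
    (hh : ∀ (Y : Over S) (y : Y ⟶ H), y ≫ h = 1 → y = 1) : Mono h := ⟨fun {Y} a b e => by
  have := hh Y (a * b⁻¹) (by rw [MonObj.mul_comp, GrpObj.inv_comp, e, mul_inv_cancel])
  exact mul_inv_eq_one.1 this⟩

theorem KerSub.of_cover {Z : Over S} {f : Red.DS S M ⟶ G} {Λ : AddSubgroup M}
    (h : ∀ z : Z.left, ∃ V : Z.left.Opens, z ∈ V ∧ KerSub (Over.mk (V.ι ≫ Z.hom)) f Λ) : KerSub Z f Λ := by
  intro Y t a
  choose V hV hker using h
  let W : Z.left → Y.left.Opens := fun z => t.left ⁻¹ᵁ V z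
  let Yz : Z.left → Over S := fun z => Over.mk ((W z).ι ≫ Y.hom)
  let r : ∀ z, Yz z ⟶ Y := fun z => Over.homMk (W z).ι rfl
  let tz : ∀ z, Yz z ⟶ Over.mk ((V z).ι ≫ Z.hom) := fun z => Over.homMk (t.left ∣_ V z) (by
    show (t.left ∣_ V z) ≫ (V z).ι ≫ Z.hom = (W z).ι ≫ Y.hom
    rw [← Category.assoc, morphismRestrict_ι, Category.assoc, Over.w t])
  have hcov : ∀ {X : Over S} (b : Y ⟶ X) (_ : GrpObj X), b = 1 ↔ ∀ z, r z ≫ b = 1 := fun {X} b _ => by
    refine ⟨fun e z => by rw [e, MonObj.comp_one], fun e => ?_⟩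
    have hsup : iSup W = ⊤ := eq_top_iff.2 fun y _ => TopologicalSpace.Opens.mem_iSup.2 ⟨t.left y, hV (t.left y)⟩
    refine Over.OverMorphism.ext ((Y.left.openCoverOfIsOpenCover W hsup).hom_ext _ _ fun z => ?_)
    exact congrArg CommaMorphism.left ((e z).trans (MonObj.comp_one (r z)).symm)
  have h2 : a ≫ f = 1 ↔ a ≫ Red.DSmap S Λ.subtype = 1 := by
    rw [hcov (a ≫ f) inferInstance, hcov (a ≫ Red.DSmap S Λ.subtype) inferInstance]
    exact forall_congr' fun z => by
      rw [← Category.assoc, ← Category.assoc]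
      exact (hker z).iff_comp (tz z) (r z ≫ a)
  rw [h2, comp_DSmap_eq_one_iff]
  exact ⟨fun e m hm => e ⟨m, hm⟩, fun e m => e m m.2⟩

end Groth.Agent.DSImg
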