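import Groth.Agent.DSImgLib.Basic
import Mathlib.AlgebraicGeometry.AffineTransitionLimit

/-!
# Homomorphisms out of diagonalisable groups factor through finitely generated characters
-/

set_option autoImplicit false
set_option linter.style.haveILetI false
set_option backward.isDefEq.respectTransparency false
set_option backward.isDefEq.respectTransparency.types false
set_option maxHeartbeats 800000

noncomputable section

universe u

open CategoryTheory CategoryTheory.Limits MonoidalCategory CartesianMonoidalCategory AlgebraicGeometry Opposite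
open scoped MonObj

attribute [-instance] CategoryTheory.Hom.commGroup

namespace Groth.Agent.DSImg

open MultSubLib (chars chars_injective)

variable (S : Scheme.{u}) (Γ₀ : Type) [AddCommGroup Γ₀]

/-- Finitely generated subgroups. -/
abbrev FGSubgroup : Type u := ULift.{u} {L : AddSubgroup Γ₀ // L.FG}

instance : IsDirectedOrder (FGSubgroup.{u} Γ₀) :=
  ⟨fun a b => ⟨⟨⟨a.down.1 ⊔ b.down.1, a.down.2.sup b.down.2⟩⟩, le_sup_left (a := a.down.1), le_sup_right (b := b.down.1)⟩⟩

theorem fg_bot' : (⊥ : AddSubgroup Γ₀).FG := ⟨∅, by simp⟩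

instance : Nonempty (FGSubgroup.{u} Γ₀) := ⟨⟨⟨⊥, fg_bot' Γ₀⟩⟩⟩

/-- The system of groups with finitely generated characters. -/
def sysD : (FGSubgroup.{u} Γ₀)ᵒᵖ ⥤ Over S where
  obj i := Red.DS S i.unop.down.1
  map {i j} h := Red.DSmap S (AddSubgroup.inclusion (show j.unop.down.1 ≤ i.unop.down.1 from leOfHom (X := FGSubgroup.{u} Γ₀) (x := j.unop) (y := i.unop) h.unop))
  map_id i := chars_injective (by
    rw [← Category.id_comp (Red.DSmap S _), chars_comp_DSmap]
    rfl)
  map_comp f g := by rw [DSmap_comp]; rfl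

/-- The cone over the system. -/
def sysC : Cone (sysD S Γ₀ ⋙ Over.forget S) where
  pt := (Red.DS S Γ₀).left
  π :=
    { app := fun i => (Red.DSmap S i.unop.down.1.subtype).left
      naturality := fun i j h => by
        show 𝟙 _ ≫ (Red.DSmap S j.unop.down.1.subtype).left = (Red.DSmap S i.unop.down.1.subtype ≫ (sysD S Γ₀).map h).left
        rw [Category.id_comp]
        refine congrArg CommaMorphism.left (Eq.symm ?_)
        show _ ≫ Red.DSmap S _ = _
        rw [DSmap_comp]
        rfl }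

/-- The group is the limit of the system. -/
def isLimit_sysC : IsLimit (sysC S Γ₀) := by
  refine IsLimit.ofExistsUnique fun c => ?_
  let o : (FGSubgroup.{u} Γ₀)ᵒᵖ := op ⟨⟨⊥, fg_bot' Γ₀⟩⟩
  let Y : Over S := Over.mk (c.π.app o ≫ (Red.DS S o.unop.down.1).hom)
  have hw : ∀ i, c.π.app i ≫ (Red.DS S i.unop.down.1).hom = Y.hom := fun i => by
    have hi : i.unop ≥ o.unop := show o.unop.down.1 ≤ i.unop.down.1 from bot_le
    have h1 := c.w (homOfLE hi).op
    show _ = c.π.app o ≫ _
    rw [← h1, Category.assoc]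
    congr 1
    exact (Over.w ((sysD S Γ₀).map (homOfLE hi).op)).symm
  let a : ∀ i, Y ⟶ (sysD S Γ₀).obj i := fun i => Over.homMk (c.π.app i) (hw i)
  have ha : ∀ {i j} (h : i ⟶ j), a i ≫ (sysD S Γ₀).map h = a j := fun h => Over.OverMorphism.ext (c.w h)
  let at' : ∀ (L : AddSubgroup Γ₀) (hL : L.FG), Multiplicative L →* Γ(Y.left, ⊤) :=
    fun L hL => chars (a (op ⟨⟨L, hL⟩⟩))
  have hat : ∀ (L L' : AddSubgroup Γ₀) (hL : L.FG) (hL' : L'.FG) (hle : L ≤ L') (m : L),
      at' L' hL' (Multiplicative.ofAdd (AddSubgroup.inclusion hle m)) = at' L hL (Multiplicative.ofAdd m) := by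
    intro L L' hL hL' hle m
    have hle' : (⟨⟨L, hL⟩⟩ : FGSubgroup.{u} Γ₀) ≤ ⟨⟨L', hL'⟩⟩ := hle
    show chars (a (op ⟨⟨L', hL'⟩⟩)) _ = chars (a (op ⟨⟨L, hL⟩⟩)) _
    rw [← ha (homOfLE hle').op]
    exact (DFunLike.congr_fun (chars_comp_DSmap (S := S) (a (op ⟨⟨L', hL'⟩⟩)) _) (Multiplicative.ofAdd m)).symm
  let Z : Γ₀ → AddSubgroup Γ₀ := fun m => AddSubgroup.closure {m}
  have hZ : ∀ m, (Z m).FG := fun m => ⟨{m}, by simp [Z]⟩
  let val : Γ₀ → Γ(Y.left, ⊤) := fun m => at' (Z m) (hZ m) (Multiplicative.ofAdd ⟨m, AddSubgroup.subset_closure rfl⟩)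
  have hval : ∀ (L : AddSubgroup Γ₀) (hL : L.FG) (m : L), at' L hL (Multiplicative.ofAdd m) = val m := by
    intro L hL m
    exact hat (Z m) L (hZ m) hL ((AddSubgroup.closure_le _).2 (Set.singleton_subset_iff.2 m.2))
      ⟨m.1, AddSubgroup.subset_closure rfl⟩
  let χ : Multiplicative Γ₀ →* Γ(Y.left, ⊤) :=
    { toFun := fun m => val m.toAdd
      map_one' := by
        show val 0 = 1
        rw [← hval ⊥ (fg_bot' Γ₀) ⟨0, zero_mem _⟩]
        exact map_one _
      map_mul' := fun x y => by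
        show val (x.toAdd + y.toAdd) = val x.toAdd * val y.toAdd
        have hL : (Z x.toAdd ⊔ Z y.toAdd).FG := (hZ _).sup (hZ _)
        let x' : ↥(Z x.toAdd ⊔ Z y.toAdd) := ⟨x.toAdd, le_sup_left (a := Z x.toAdd) (AddSubgroup.subset_closure rfl)⟩
        let y' : ↥(Z x.toAdd ⊔ Z y.toAdd) := ⟨y.toAdd, le_sup_right (b := Z y.toAdd) (AddSubgroup.subset_closure rfl)⟩
        rw [← hval _ hL x', ← hval _ hL y', ← map_mul, ← ofAdd_add, hval _ hL (x' + y')]
        rfl }
  refine ⟨(DSPtsLib.dsPt (S := S) χ : Y ⟶ Red.DS S Γ₀).left, fun i => ?_, fun m hm => ?_⟩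
  · show (DSPtsLib.dsPt χ ≫ Red.DSmap S i.unop.down.1.subtype).left = (a i).left
    refine congrArg CommaMorphism.left (chars_injective ?_)
    rw [chars_comp_DSmap, MultSubLib.chars_dsPt]
    exact MonoidHom.ext fun m => (hval i.unop.down.1 i.unop.down.2 m.toAdd).symm
  · let m' : Y ⟶ Red.DS S Γ₀ := Over.homMk m (by
      show m ≫ _ = c.π.app o ≫ _
      rw [← hm o]
      show _ = (m ≫ (Red.DSmap S o.unop.down.1.subtype).left) ≫ _
      rw [Category.assoc, Over.w])
    show m'.left = _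
    refine congrArg CommaMorphism.left (chars_injective ?_)
    rw [MultSubLib.chars_dsPt]
    refine MonoidHom.ext fun x => ?_
    have h1 : m' ≫ Red.DSmap S (Z x.toAdd).subtype = a (op ⟨⟨Z x.toAdd, hZ _⟩⟩) :=
      Over.OverMorphism.ext (hm (op ⟨⟨Z x.toAdd, hZ _⟩⟩))
    have h2 := congrArg chars h1
    rw [chars_comp_DSmap] at h2
    exact DFunLike.congr_fun h2 (Multiplicative.ofAdd ⟨x.toAdd, AddSubgroup.subset_closure rfl⟩)

variable {S Γ₀} {G : Over S} [GrpObj G]

/-- A homomorphism to a group of finite presentation factors through finitely many characters. -/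
theorem exists_fg_factor [CompactSpace S] [QuasiSeparatedSpace S] [LocallyOfFinitePresentation G.hom]
    (f : Red.DS S Γ₀ ⟶ G) [IsMonHom f] :
    ∃ (L : AddSubgroup Γ₀) (g : Red.DS S L ⟶ G), L.FG ∧ IsMonHom g ∧ Red.DSmap S L.subtype ≫ g = f := by
  let D := sysD S Γ₀ ⋙ Over.forget S
  haveI : ∀ i, IsAffineHom ((sysD S Γ₀).obj i).hom := fun i => MultEq.isAffineHom_DS S i.unop.down.1
  haveI : ∀ {i j} (h : i ⟶ j), IsAffineHom (D.map h) := fun {i j} h => by
    haveI : IsAffineHom (((sysD S Γ₀).map h).left ≫ ((sysD S Γ₀).obj j).hom) := by rw [Over.w]; infer_instance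
    exact IsAffineHom.of_comp ((sysD S Γ₀).map h).left ((sysD S Γ₀).obj j).hom
  haveI : ∀ i, CompactSpace (D.obj i) := fun i =>
    QuasiCompact.compactSpace_of_compactSpace ((sysD S Γ₀).obj i).hom
  haveI : ∀ i, QuasiSeparatedSpace (D.obj i) := fun i =>
    quasiSeparatedSpace_of_quasiSeparated ((sysD S Γ₀).obj i).hom
  obtain ⟨i, g, hg, hgS⟩ := Scheme.exists_π_app_comp_eq_of_locallyOfFinitePresentation D
    { app := fun i => ((sysD S Γ₀).obj i).hom
      naturality := fun i j h => (Over.w ((sysD S Γ₀).map h)).trans (Category.comp_id _).symm }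
    G.hom (sysC S Γ₀) (isLimit_sysC S Γ₀) f.left (by
      ext i
      show (Red.DSmap S i.unop.down.1.subtype).left ≫ _ = f.left ≫ G.hom
      exact (Over.w (Red.DSmap S i.unop.down.1.subtype)).trans (Over.w f).symm)
  let L := i.unop.down.1
  let g₀ : Red.DS S L ⟶ G := Over.homMk g hgS
  have hg₀ : Red.DSmap S L.subtype ≫ g₀ = f := Over.OverMorphism.ext hg
  obtain ⟨g', hg', hg''⟩ := exists_desc (φ := L.subtype) Subtype.val_injective f fun Y a ha => by
    rw [← hg₀, ← Category.assoc, ha, ← MonObj.one_comp (Red.DSmap S L.subtype), Category.assoc, hg₀, MonObj.one_comp]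
  exact ⟨L, g', i.unop.down.2, hg', hg''⟩

end Groth.Agent.DSImg
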