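import Groth.Agent.DSImgLib.Main

/-!
# Local images of homomorphisms out of diagonalisable groups
-/

set_option autoImplicit false
set_option linter.style.haveILetI false
set_option backward.isDefEq.respectTransparency false
set_option backward.isDefEq.respectTransparency.types false
set_option synthInstance.maxHeartbeats 200000
set_option maxHeartbeats 800000

noncomputable section

universe u

open CategoryTheory CategoryTheory.Limits MonoidalCategory CartesianMonoidalCategory AlgebraicGeometry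
open scoped MonObj

attribute [-instance] CategoryTheory.Hom.commGroup

namespace Groth.Agent.DSImg

variable {S : Scheme.{u}} {Γ₀ : Type} [AddCommGroup Γ₀] {G : Over S} [GrpObj G]

/-- Locally on the base, the image is diagonalisable of finite type. -/
theorem exists_local_image [IsSeparated G.hom] [QuasiCompact G.hom] [LocallyOfFinitePresentation G.hom]
    (f : Red.DS S Γ₀ ⟶ G) [IsMonHom f] (s : S) :
    ∃ U : S.Opens, s ∈ U ∧ ∃ (Λ : AddSubgroup Γ₀) (h : Red.DS (U : Scheme.{u}) Λ ⟶ Red.bc U.ι G),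
      Λ.FG ∧ IsMonHom h ∧ IsClosedImmersion h.left ∧ Red.DSmap (U : Scheme.{u}) Λ.subtype ≫ h = fT U.ι f := by
  obtain ⟨U, hs, -, Λ, hΛ, hker⟩ := exists_clopen_kerSub f s
  haveI : IsSeparated (Red.bc U.ι G).hom := inferInstanceAs (IsSeparated (pullback.snd G.hom U.ι))
  haveI : QuasiCompact (Red.bc U.ι G).hom := inferInstanceAs (QuasiCompact (pullback.snd G.hom U.ι))
  haveI : LocallyOfFinitePresentation (Red.bc U.ι G).hom :=
    inferInstanceAs (LocallyOfFinitePresentation (pullback.snd G.hom U.ι))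
  have hker' : KerSub ((Over.map U.ι).obj (Over.mk (𝟙 (U : Scheme.{u})))) f Λ :=
    hker.of_hom (Over.homMk (𝟙 _) (by simp))
  obtain ⟨h, hh, hmono, hfac⟩ := exists_factor (fT U.ι f) (KerSub.bc U.ι hker')
  haveI : AddGroup.FG Λ := (AddGroup.fg_iff_addSubgroup_fg Λ).2 hΛ
  haveI : LocallyOfFiniteType (Red.bc U.ι G).hom := inferInstance
  haveI := hh
  haveI := hmono
  exact ⟨U, hs, Λ, h, hΛ, hh, MonoCI.isClosedImmersion_of_mono_DS h, hfac⟩

theorem quasiCompact_left [IsSeparated G.hom] (f : Red.DS S Γ₀ ⟶ G) : QuasiCompact f.left := by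
  haveI := MultEq.isAffineHom_DS S Γ₀
  haveI : QuasiCompact (f.left ≫ G.hom) := by rw [Over.w f]; infer_instance
  exact QuasiCompact.of_comp f.left G.hom

theorem exists_free_iso (Λ : AddSubgroup Γ₀) [IsAddTorsionFree Γ₀] (hΛ : Λ.FG) :
    ∃ r : ℕ, Nonempty (Λ ≃+ (Fin r → ℤ)) := by
  haveI : Module.Finite ℤ Λ := Module.Finite.iff_addGroup_fg.2 ((AddGroup.fg_iff_addSubgroup_fg Λ).2 hΛ)
  haveI : IsAddTorsionFree Λ :=
    Function.Injective.isAddTorsionFree (Λ.subtype) Subtype.val_injective
  haveI : Module.Free ℤ Λ := Module.free_of_finite_type_torsion_free'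
  exact ⟨_, ⟨(Module.finBasis ℤ Λ).equivFun.toAddEquiv⟩⟩

end Groth.Agent.DSImg
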