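import Groth.Agent.DSImgLib.Ker
import Groth.Agent.S5286
import Groth.Agent.S6059
import Groth.Agent.MultSubLib.Basic

/-!
# The image of a homomorphism out of a diagonalisable group
-/

set_option autoImplicit false
set_option linter.style.haveILetI false
set_option backward.isDefEq.respectTransparency false
set_option backward.isDefEq.respectTransparency.types false
set_option maxHeartbeats 800000

noncomputable section

universe u

open CategoryTheory CategoryTheory.Limits MonoidalCategory CartesianMonoidalCategory AlgebraicGeometry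
open scoped MonObj

attribute [-instance] CategoryTheory.Hom.commGroup

namespace Groth.Agent.DSImg

open MultSubLib (chars chars_injective chars_comp)

theorem fg_subgroup {M : Type} [AddCommGroup M] [AddGroup.FG M] (Λ : AddSubgroup M) : Λ.FG := by
  haveI : Module.Finite ℤ M := Module.Finite.iff_addGroup_fg.2 ‹_›
  exact AddSubgroup.toIntSubmodule_toAddSubgroup Λ ▸
    (Submodule.fg_iff_addSubgroup_fg (AddSubgroup.toIntSubmodule Λ)).1 (IsNoetherian.noetherian _)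

theorem fg_map {M N : Type} [AddCommGroup M] [AddCommGroup N] (φ : M →+ N) {Λ : AddSubgroup M} (h : Λ.FG) :
    (Λ.map φ).FG := by
  classical
  obtain ⟨F, rfl⟩ := h
  exact ⟨F.image φ, by rw [Finset.coe_image, AddMonoidHom.map_closure]⟩

theorem fibre_to {T S : Scheme.{u}} (π : T ⟶ S) (x : T) :
    Nonempty (Over.mk (T.fromSpecResidueField x ≫ π) ⟶ Over.mk (S.fromSpecResidueField (π x))) :=
  ⟨Over.homMk (Spec.map (π.residueFieldMap x)) (π.SpecMap_residueFieldMap_fromSpecResidueField x)⟩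

/-- Near a point, the kernel is cut out by one finitely generated group of characters. -/
theorem exists_nhd_kerSub {S : Scheme.{u}} [CompactSpace S] [QuasiSeparatedSpace S] {Γ₀ : Type} [AddCommGroup Γ₀]
    {G : Over S} [GrpObj G] [IsSeparated G.hom] [QuasiCompact G.hom] [LocallyOfFinitePresentation G.hom]
    (f : Red.DS S Γ₀ ⟶ G) [IsMonHom f] (s : S) :
    ∃ W : S.Opens, s ∈ W ∧ ∃ Λ : AddSubgroup Γ₀, Λ.FG ∧ KerSub (Over.mk W.ι) f Λ := by
  obtain ⟨L, g, hL, hg, rfl⟩ := exists_fg_factor f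
  haveI := hg
  haveI : AddGroup.FG L := (AddGroup.fg_iff_addSubgroup_fg L).2 hL
  obtain ⟨Λ', hΛ'⟩ := exists_fibre_subgroup (S.fromSpecResidueField s) g
  haveI : AddGroup.FG Λ' := (AddGroup.fg_iff_addSubgroup_fg Λ').2 (fg_subgroup Λ')
  let mk := QuotientAddGroup.mk' Λ'
  haveI : AddGroup.FG (L ⧸ Λ') := AddGroup.fg_of_surjective (f := mk) (QuotientAddGroup.mk'_surjective Λ')
  let u₀ := Red.DSmap S mk ≫ g
  have hmk : ∀ (Y : Over S) (a : Y ⟶ Red.DS S (L ⧸ Λ')) (m : L), m ∈ Λ' →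
      chars (a ≫ Red.DSmap S mk) (Multiplicative.ofAdd m) = 1 := fun Y a m hm => by
    rw [chars_comp_DSmap]
    show chars a (Multiplicative.ofAdd (mk m)) = 1
    rw [show mk m = 0 from (QuotientAddGroup.eq_zero_iff m).2 hm, ofAdd_zero, map_one]
  have hu₀ : (Over.pullback (S.fromSpecResidueField s)).map u₀ = 1 := map_eq_one _ u₀ fun Y t a => by
    rw [← Category.assoc]
    exact (hΛ' Y t _).2 (hmk Y a)
  obtain ⟨U₀, -, hU₀mem, hU₀⟩ := Groth.Agent.S5286.result (Red.DS S (L ⧸ Λ')) G (MultSubLib.isMultTypeFT_DS S _)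
    (Or.inr ⟨inferInstance, inferInstance, inferInstance⟩) u₀
  have hback : ∀ (Y : Over S) (_t : Y ⟶ Over.mk U₀.ι) (a : Y ⟶ Red.DS S L),
      (∀ m ∈ Λ', chars a (Multiplicative.ofAdd m) = 1) → a ≫ g = 1 := by
    intro Y t a ha
    obtain ⟨χ, hχ⟩ := exists_quot (Λ := Λ') (chars a) fun m hm => ha m hm
    have : (DSPtsLib.dsPt χ : Y ⟶ Red.DS S (L ⧸ Λ')) ≫ Red.DSmap S mk = a := chars_injective (by
      rw [chars_comp_DSmap, MultSubLib.chars_dsPt]
      exact MonoidHom.ext fun m => hχ m.toAdd)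
    rw [← this, Category.assoc]
    exact comp_eq_one_of_map_eq_one _ u₀ hU₀ t _
  -- over the trivial locus
  let T : Scheme.{u} := U₀
  let s₀ : T := ⟨s, (hU₀mem s).2 hu₀⟩
  let gT := fT U₀.ι g
  have hbackT : ∀ (Y : Over T) (a : Y ⟶ Red.DS T L), a ≫ Red.DSmap T Λ'.subtype = 1 → a ≫ gT = 1 := by
    intro Y a ha
    rw [comp_fT_eq_one_iff]
    refine hback _ (Over.homMk Y.hom rfl) _ fun m hm => ?_
    rw [chars_bcPt]
    exact (comp_DSmap_eq_one_iff a Λ'.subtype).1 ha ⟨m, hm⟩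
  obtain ⟨h, hh, hfac⟩ := exists_desc (φ := Λ'.subtype) Subtype.val_injective gT hbackT
  haveI := hh
  haveI : IsSeparated (Red.bc U₀.ι G).hom := inferInstanceAs (IsSeparated (pullback.snd G.hom U₀.ι))
  haveI : LocallyOfFinitePresentation (Red.bc U₀.ι G).hom :=
    inferInstanceAs (LocallyOfFinitePresentation (pullback.snd G.hom U₀.ι))
  let κ' := T.fromSpecResidueField s₀
  have hker' : KerSub (Over.mk κ') gT Λ' := by
    obtain ⟨w⟩ := fibre_to U₀.ι s₀
    exact KerSub.bc U₀.ι (Z := Over.mk κ') (KerSub.of_hom (Z := Over.mk (S.fromSpecResidueField s)) hΛ' w)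
  have hmono : Mono ((Over.pullback κ').map h).left := by
    haveI : IsMonHom (M := Red.bc κ' (Red.DS T Λ')) (N := Red.bc κ' (Red.bc U₀.ι G)) ((Over.pullback κ').map h) :=
      DiagRep.isMonHom_bc_map κ' h
    haveI : Mono ((Over.pullback κ').map h) :=
      mono_of_forall_eq_one (H := Red.bc κ' (Red.DS T Λ')) (G := Red.bc κ' (Red.bc U₀.ι G))
        ((Over.pullback κ').map h) fun Y y hy => by
      have h1 : (PowEtCentralLib.adjEquiv (G := Red.DS T Λ') κ' Y).symm y ≫ h = 1 := by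
        refine Eq.trans ?_ (map_one (PowEtCentralLib.adjEquiv (G := Red.bc U₀.ι G) κ' Y).symm)
        rw [← hy]
        exact (Adjunction.homEquiv_naturality_right_symm (Over.mapPullbackAdj κ') y h).symm
      exact (map_eq_one_iff _ (PowEtCentralLib.adjEquiv (G := Red.DS T Λ') κ' Y).symm.injective).1
        (eq_one_of_comp_eq_one hfac hker' (Over.homMk Y.hom rfl) _ h1)
    exact inferInstanceAs (Mono ((Over.forget _).map ((Over.pullback κ').map h)))
  obtain ⟨V, hsV, hV⟩ := Groth.Agent.S6059.result (Red.DS T Λ') (Red.bc U₀.ι G) (MultSubLib.isMultTypeFT_DS T _)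
    (Or.inr inferInstance) h s₀ hmono
  have hVone : ∀ (Y : Over T) (_t : Y ⟶ Over.mk V.ι) (y : Y ⟶ Red.DS T Λ'), y ≫ h = 1 → y = 1 := by
    intro Y t y hy
    let Y₀ : Over (V : Scheme.{u}) := Over.mk t.left
    let e : (Over.map V.ι).obj Y₀ ⟶ Y := Over.homMk (𝟙 Y.left) ((Category.id_comp _).trans (Over.w t).symm)
    haveI : IsIso e := by
      haveI : IsIso ((Over.forget T).map e) := inferInstanceAs (IsIso (𝟙 Y.left))
      exact isIso_of_reflects_iso e (Over.forget T)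
    let y₀ := PowEtCentralLib.adjEquiv (G := Red.DS T Λ') V.ι Y₀ (e ≫ y)
    haveI := hV
    haveI : Mono ((Over.pullback V.ι).map h) := Over.mono_of_mono_left _
    have h1 : y₀ ≫ (Over.pullback V.ι).map h = 1 := by
      refine Eq.trans (Adjunction.homEquiv_naturality_right (Over.mapPullbackAdj V.ι) (e ≫ y) h).symm ?_
      rw [Category.assoc, hy, MonObj.comp_one]
      exact map_one (PowEtCentralLib.adjEquiv (G := Red.bc U₀.ι G) V.ι Y₀)
    haveI : IsMonHom (M := Red.bc V.ι (Red.DS T Λ')) (N := Red.bc V.ι (Red.bc U₀.ι G)) ((Over.pullback V.ι).map h) :=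
      DiagRep.isMonHom_bc_map V.ι h
    have h2 : y₀ = 1 := by
      rw [← cancel_mono ((Over.pullback V.ι).map h), h1]
      exact (MonObj.one_comp (M := Red.bc V.ι (Red.DS T Λ')) (N := Red.bc V.ι (Red.bc U₀.ι G)) _).symm
    haveI : Epi e := IsIso.epi_of_iso e
    rw [← cancel_epi e, MonObj.comp_one]
    exact (map_eq_one_iff _ (PowEtCentralLib.adjEquiv (G := Red.DS T Λ') V.ι Y₀).injective).1 h2
  have hkerV : KerSub (Over.mk V.ι) gT Λ' := fun Y t a => by
    refine ⟨fun ha m hm => ?_, fun ha => hbackT Y a ((comp_DSmap_eq_one_iff a _).2 fun m => ha m m.2)⟩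
    have h1 := hVone Y t (a ≫ Red.DSmap T Λ'.subtype) (by rw [Category.assoc, hfac, ha])
    exact (comp_DSmap_eq_one_iff a Λ'.subtype).1 h1 ⟨m, hm⟩
  let W : S.Opens := U₀.ι ''ᵁ V
  have hWV : Nonempty (Over.mk W.ι ⟶ (Over.map U₀.ι).obj (Over.mk V.ι)) :=
    ⟨Over.homMk ((U₀.ι.isoImage V).inv) (U₀.ι.isoImage_inv_ι V)⟩
  refine ⟨W, ⟨s₀, hsV, rfl⟩, Λ'.map L.subtype, fg_map L.subtype (fg_subgroup Λ'), KerSub.map ?_⟩
  obtain ⟨w⟩ := hWV
  exact (KerSub.of_bc U₀.ι hkerV).of_hom w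

end Groth.Agent.DSImg

namespace Groth.Agent.DSImg

section Global

variable {S : Scheme.{u}} {Γ₀ : Type} [AddCommGroup Γ₀] {G : Over S} [GrpObj G]

theorem exists_hom_of_mem (W : S.Opens) {X : Scheme.{u}} (x : X ⟶ S) (h : Set.range x ⊆ W) :
    Nonempty (Over.mk x ⟶ Over.mk W.ι) :=
  ⟨Over.homMk (IsOpenImmersion.lift W.ι x (fun y hy => ⟨⟨y, h hy⟩, rfl⟩)) (IsOpenImmersion.lift_fac _ _ _)⟩

theorem kerSub_unique {f : Red.DS S Γ₀ ⟶ G} {W W' : S.Opens} {Λ Λ' : AddSubgroup Γ₀} {t : S} (ht : t ∈ W)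
    (ht' : t ∈ W') (h : KerSub (Over.mk W.ι) f Λ) (h' : KerSub (Over.mk W'.ι) f Λ') : Λ = Λ' := by
  have hr : ∀ V : S.Opens, t ∈ V → Set.range (S.fromSpecResidueField t) ⊆ V := fun V hV => by
    rw [Scheme.range_fromSpecResidueField]
    exact Set.singleton_subset_iff.2 hV
  obtain ⟨w⟩ := exists_hom_of_mem W _ (hr W ht)
  obtain ⟨w'⟩ := exists_hom_of_mem W' _ (hr W' ht')
  exact eq_of_kerSub (S.fromSpecResidueField t) (h.of_hom w) (h'.of_hom w')

variable [IsSeparated G.hom] [QuasiCompact G.hom] [LocallyOfFinitePresentation G.hom] (f : Red.DS S Γ₀ ⟶ G)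
  [IsMonHom f]

theorem exists_nhd_kerSub' (t : S) :
    ∃ W : S.Opens, t ∈ W ∧ ∃ Λ : AddSubgroup Γ₀, Λ.FG ∧ KerSub (Over.mk W.ι) f Λ := by
  obtain ⟨S₀, hS₀, htS₀, -⟩ := exists_isAffineOpen_mem_and_subset (X := S) (x := t) (U := ⊤) trivial
  haveI : IsAffine (S₀ : Scheme.{u}) := hS₀
  haveI : IsSeparated (Red.bc S₀.ι G).hom := inferInstanceAs (IsSeparated (pullback.snd G.hom S₀.ι))
  haveI : QuasiCompact (Red.bc S₀.ι G).hom := inferInstanceAs (QuasiCompact (pullback.snd G.hom S₀.ι))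
  haveI : LocallyOfFinitePresentation (Red.bc S₀.ι G).hom :=
    inferInstanceAs (LocallyOfFinitePresentation (pullback.snd G.hom S₀.ι))
  obtain ⟨W₀, htW₀, Λ, hΛ, hker⟩ := exists_nhd_kerSub (fT S₀.ι f) ⟨t, htS₀⟩
  refine ⟨S₀.ι ''ᵁ W₀, ⟨⟨t, htS₀⟩, htW₀, rfl⟩, Λ, hΛ, ?_⟩
  exact (KerSub.of_bc S₀.ι hker).of_hom (Over.homMk (S₀.ι.isoImage W₀).inv (S₀.ι.isoImage_inv_ι W₀))

/-- Over a clopen neighbourhood of each point, the kernel is cut out by one finitely generated group of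
characters. -/
theorem exists_clopen_kerSub (s : S) :
    ∃ U : S.Opens, s ∈ U ∧ IsClosed (U : Set S) ∧ ∃ Λ : AddSubgroup Γ₀, Λ.FG ∧ KerSub (Over.mk U.ι) f Λ := by
  choose W hW Λ hfg hker using exists_nhd_kerSub' f
  have hconst : ∀ (t t' : S), t' ∈ W t → Λ t' = Λ t := fun t t' h =>
    kerSub_unique (hW t') h (hker t') (hker t)
  let U : S.Opens := ⟨{t | Λ t = Λ s}, isOpen_iff_forall_mem_open.2 fun t ht =>
    ⟨W t, fun t' ht' => (hconst t t' ht').trans ht, (W t).isOpen, hW t⟩⟩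
  refine ⟨U, rfl, ⟨isOpen_iff_forall_mem_open.2 fun t ht =>
    ⟨W t, fun t' ht' e => ht ((hconst t t' ht').symm.trans e), (W t).isOpen, hW t⟩⟩, Λ s, hfg s, ?_⟩
  refine KerSub.of_cover fun z => ⟨U.ι ⁻¹ᵁ W (U.ι z), hW (U.ι z), ?_⟩
  obtain ⟨w⟩ := exists_hom_of_mem (W (U.ι z)) ((U.ι ⁻¹ᵁ W (U.ι z)).ι ≫ U.ι) (by
    rintro _ ⟨x, rfl⟩
    exact x.2)
  have hz : Λ (U.ι z) = Λ s := z.2
  exact hz ▸ (hker (U.ι z)).of_hom w

omit [IsSeparated G.hom] [QuasiCompact G.hom] [LocallyOfFinitePresentation G.hom] in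
/-- A kernel cut out by characters gives a factorisation with trivial kernel. -/
theorem exists_factor {Λ : AddSubgroup Γ₀} (hker : KerSub (Over.mk (𝟙 S)) f Λ) :
    ∃ h : Red.DS S Λ ⟶ G, IsMonHom h ∧ Mono h ∧ Red.DSmap S Λ.subtype ≫ h = f := by
  obtain ⟨h, hh, hfac⟩ := exists_desc (φ := Λ.subtype) Subtype.val_injective f fun Y a ha =>
    (hker.iff_comp (Over.homMk Y.hom (Category.comp_id _)) a).2 ha
  haveI := hh
  exact ⟨h, hh, mono_of_forall_eq_one h fun Y y hy =>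
    eq_one_of_comp_eq_one hfac hker (Over.homMk Y.hom (Category.comp_id _)) y hy, hfac⟩

end Global

end Groth.Agent.DSImg
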